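import Cfsg.Agent.Lib.StabilizerLength.Basic
import Cfsg.Agent.Lib.OddBaseTwo.Idempotents
import Cfsg.Agent.Lib.Solvable.Basic
import Mathlib.GroupTheory.GroupAction.Hom
import Mathlib.Algebra.Module.ZMod

/-!
# Primitive solvable permutation groups

* `exists_affine`: such a group is affine, with an irreducible linear part.
-/

set_option autoImplicit false
set_option linter.style.haveILetI false

namespace Cfsg.Agent.StabilizerLength

open OddBaseTwo MulAction

universe u

/-- The points form a vector space and the group acts by affine maps. -/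
structure Affine (G : Type u) [Group G] (X : Type u) [MulAction G X] where
  /-- The translations. -/
  F : Type u
  [acgF : AddCommGroup F]
  [finF : Finite F]
  /-- The identification. -/
  e : F ≃ X
  /-- The linear part. -/
  lin : G →* AddMonoid.End F
  /-- The translation part. -/
  tr : G → F
  smul_eq : ∀ (g : G) (a : F), g • e a = e (lin g a + tr g)
  irr : ∀ U : AddSubgroup F, (∀ g : G, ∀ a ∈ U, lin g a ∈ U) → U = ⊥ ∨ U = ⊤

attribute [instance] Affine.acgF Affine.finF

theorem exists_affine {G : Type u} [Group G] [Finite G] {X : Type u} [Finite X] [MulAction G X]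
    [FaithfulSMul G X] [IsPretransitive G X] (hsol : Group.IsSolvable G) {x₀ : X}
    (hmax : IsCoatom (stabilizer G x₀)) : Nonempty (Affine G X) := by
  classical
  haveI := hsol
  have hsol' : Group.IsSolvable (⊤ : Subgroup G) := inferInstance
  have htop : (⊤ : Subgroup G) ≠ ⊥ := fun h => hmax.1 (eq_top_iff.2 (h.trans_le bot_le))
  obtain ⟨M, p, hMn, -, hMne, hmin, hMc, -, -⟩ := Solvable.exists_abelian_minimal_normal hsol' htop
  haveI := hMn
  haveI := hMc
  have hMH : ¬ M ≤ stabilizer G x₀ := fun h => hMne ((Subgroup.eq_bot_iff_forall M).2 fun m hm =>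
    eq_of_smul_eq_smul fun x : X => by
      obtain ⟨g, rfl⟩ := exists_smul_eq G x₀ x
      have h1 := mem_stabilizer_iff.1 (h (hMn.conj_mem m hm g⁻¹))
      rw [inv_inv, mul_smul, mul_smul, inv_smul_eq_iff] at h1
      rw [one_smul, h1])
  have hsup : M ⊔ stabilizer G x₀ = ⊤ := hmax.2 _ (right_lt_sup.2 hMH)
  have hdec : ∀ g : G, ∃ m ∈ M, ∃ h ∈ stabilizer G x₀, m * h = g := fun g =>
    Subgroup.mem_sup_of_normal_left.1 (hsup ▸ Subgroup.mem_top g)
  have hsurj : ∀ x : X, ∃ m : M, (m : G) • x₀ = x := fun x => by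
    obtain ⟨g, rfl⟩ := exists_smul_eq G x₀ x
    obtain ⟨m, hm, h, hh, rfl⟩ := hdec g
    exact ⟨⟨m, hm⟩, by rw [mul_smul, mem_stabilizer_iff.1 hh]⟩
  have hcomm : ∀ a b : M, a * b = b * a := fun a b => mul_comm' a b
  have hinj : ∀ a b : M, (a : G) • x₀ = (b : G) • x₀ → a = b := fun a b hab => by
    refine inv_mul_eq_one.1 (Subtype.ext (eq_of_smul_eq_smul fun x : X => ?_))
    obtain ⟨c, rfl⟩ := hsurj x
    rw [Subgroup.coe_one, one_smul, ← mul_smul, ← Subgroup.coe_mul, hcomm, Subgroup.coe_mul, mul_smul,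
      Subgroup.coe_mul, mul_smul, Subgroup.coe_inv, ← hab, inv_smul_smul]
  letI : CommGroup M := { (inferInstance : Group M) with mul_comm := hcomm }
  let e : Additive M ≃ X := Equiv.ofBijective (fun a : Additive M => ((a.toMul : M) : G) • x₀)
    ⟨fun a b hab => congrArg Additive.ofMul (hinj _ _ hab), fun x => by
      obtain ⟨m, hm⟩ := hsurj x
      exact ⟨Additive.ofMul m, hm⟩⟩
  haveI : Finite (Additive M) := inferInstanceAs (Finite M)
  let L : G →* AddMonoid.End (Additive M) :=
    { toFun := fun g => MonoidHom.toAdditive (MulAut.conjNormal g : MulAut M).toMonoidHom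
      map_one' := by rw [map_one]; rfl
      map_mul' := fun g h => by rw [map_mul]; rfl }
  refine ⟨⟨Additive M, e, L, fun g => e.symm (g • x₀), fun g a => ?_, fun U hU => ?_⟩⟩
  · have h1 : (((e.symm (g • x₀)).toMul : M) : G) • x₀ = g • x₀ := e.apply_symm_apply (g • x₀)
    show g • ((a.toMul : M) : G) • x₀ =
      (((MulAut.conjNormal g a.toMul : M) * (e.symm (g • x₀)).toMul : M) : G) • x₀
    rw [Subgroup.coe_mul, mul_smul, h1, MulAut.conjNormal_apply, ← mul_smul, ← mul_smul]
    congr 1
    group
  · let N : Subgroup G := (AddSubgroup.toSubgroup' U).map M.subtype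
    have hNM : N ≤ M := by rintro _ ⟨a, -, rfl⟩; exact a.2
    have hNn : N.Normal := ⟨fun y hy g => by
      obtain ⟨a, ha, rfl⟩ := hy
      exact ⟨MulAut.conjNormal g a, hU g (Additive.ofMul a) ha, MulAut.conjNormal_apply g a⟩⟩
    rcases hmin N hNn hNM with h | h
    · left
      refine eq_bot_iff.2 fun a ha => AddSubgroup.mem_bot.2 ?_
      have h1 : ((a.toMul : M) : G) ∈ N := ⟨a.toMul, ha, rfl⟩
      rw [h, Subgroup.mem_bot, OneMemClass.coe_eq_one] at h1
      exact congrArg Additive.ofMul h1
    · right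
      refine eq_top_iff.2 fun a _ => ?_
      have h1 : ((a.toMul : M) : G) ∈ N := by rw [h]; exact SetLike.coe_mem _
      obtain ⟨b, hb, hba⟩ := h1
      have hb' : b = a.toMul := Subtype.ext hba
      subst hb'
      exact hb

namespace Affine

variable {G : Type u} [Group G] {X : Type u} [MulAction G X] (T : Affine G X)

theorem card_F : Nat.card T.F = Nat.card X := Nat.card_congr T.e

/-- The action by linear parts. -/
@[reducible] def action : DistribMulAction G T.F := DistribMulAction.compHom T.F T.lin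

theorem isCR_action : letI := T.action; IsCR G T.F := by
  letI := T.action
  exact IsIrr.isCR fun U hU => T.irr U hU

theorem smul_eq_self_iff (g : G) (a : T.F) : g • T.e a = T.e a ↔ T.lin g a + T.tr g = a := by
  rw [T.smul_eq, T.e.injective.eq_iff]

/-- An element with trivial linear part is a translation. -/
theorem smul_of_lin_eq_one {g : G} (h : T.lin g = 1) (a : T.F) : g • T.e a = T.e (a + T.tr g) := by
  rw [T.smul_eq, h]
  rfl

theorem lin_eq_one_of_der [Finite G] (hsol : Group.IsSolvable G) {k : ℕ}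
    (hL : LinB.{u} (Nat.card X) k) {S : Subgroup G} {g : G} (hg : g ∈ der S k) : T.lin g = 1 := by
  letI := T.action
  exact AddMonoidHom.ext fun a => hL G T.F T.card_F.le hsol T.isCR_action g (der_mono le_top k hg) a

include T in
theorem dl_top [Finite G] (hsol : Group.IsSolvable G) {k : ℕ} (hL : LinB.{u} (Nat.card X) k) :
    DL X (⊤ : Subgroup G) (k + 1) := by
  refine DL.trans le_rfl (DL.of_comm fun g hg g' hg' x => ?_)
  obtain ⟨a, rfl⟩ := T.e.surjective x
  have h1 := T.lin_eq_one_of_der hsol hL hg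
  have h2 := T.lin_eq_one_of_der hsol hL hg'
  rw [T.smul_of_lin_eq_one h1, T.smul_of_lin_eq_one h2, T.smul_of_lin_eq_one h1,
    T.smul_of_lin_eq_one h2, add_right_comm]

/-- A set of size prime to the degree, mapped to itself, sees linear parts only. -/
theorem dl_of_coprime [Finite G] [Finite X] (hsol : Group.IsSolvable G) {k : ℕ}
    (hL : LinB.{u} (Nat.card X) k) {S : Subgroup G} {B : Finset T.F}
    (hB : ∀ g ∈ S, ∀ a ∈ B, T.lin g a + T.tr g ∈ B) (hcop : B.card.Coprime (Nat.card X)) :
    DL X S k := by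
  classical
  intro g hg x
  obtain ⟨a, rfl⟩ := T.e.surjective x
  have hl := T.lin_eq_one_of_der hsol hL hg
  have hmap : B.image (fun a => a + T.tr g) = B := by
    refine Finset.eq_of_subset_of_card_le (fun b hb => ?_)
      (Finset.card_image_of_injective _ (add_left_injective _)).ge
    obtain ⟨c, hc, rfl⟩ := Finset.mem_image.1 hb
    have h := hB g (der_le _ _ hg) c hc
    rwa [hl] at h
  have hsum : ∑ b ∈ B, (b + T.tr g) = ∑ b ∈ B, b := by
    conv_rhs => rw [← hmap]
    rw [Finset.sum_image fun _ _ _ _ h => add_right_cancel h]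
  rw [Finset.sum_add_distrib, Finset.sum_const, add_eq_left] at hsum
  have h0 : T.tr g = 0 := by
    have h1 := addOrderOf_dvd_natCard (T.tr g)
    rw [T.card_F] at h1
    exact AddMonoid.addOrderOf_eq_one_iff.1
      (Nat.eq_one_of_dvd_coprimes hcop (addOrderOf_dvd_of_nsmul_eq_zero hsum) h1)
  rw [T.smul_of_lin_eq_one hl, h0, add_zero]

/-- What fixes `0` and generators fixes everything. -/
theorem smul_eq_of_generators {g : G} {B : Set T.F} (hB : AddSubgroup.closure B = ⊤)
    (h0 : g • T.e 0 = T.e 0) (hb : ∀ b ∈ B, g • T.e b = T.e b) (x : X) : g • x = x := by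
  obtain ⟨a, rfl⟩ := T.e.surjective x
  have ht : T.tr g = 0 := by
    have h := (T.smul_eq_self_iff g 0).1 h0
    rwa [map_zero, zero_add] at h
  refine (T.smul_eq_self_iff g a).2 ?_
  rw [ht, add_zero]
  refine DFunLike.congr_fun (AddMonoidHom.eq_of_eqOn_dense hB (f := T.lin g)
    (g := AddMonoidHom.id T.F) fun b hb' => ?_) a
  have h := (T.smul_eq_self_iff g b).1 (hb b hb')
  rwa [ht, add_zero] at h

end Affine

end Cfsg.Agent.StabilizerLength
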