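import Mathlib.GroupTheory.Solvable
import Mathlib.GroupTheory.GroupAction.Basic
import Cfsg.Agent.Lib.BaseThree.Main

/-!
# Derived length of the action of a subgroup

* `der X n`: the derived series of a subgroup inside the whole group.
* `DL V X n`: the `n`th derived subgroup of `X` acts trivially on `V`.
* `LinB`, `PermB`: bounds on that length for all completely reducible solvable linear groups and all
  solvable permutation groups up to a given size.
* `Good`: five inequivalent vectors whose stabilisers have length at most nine.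
-/

set_option autoImplicit false
set_option linter.style.haveILetI false

namespace Cfsg.Agent.StabilizerLength

open OddBaseTwo MulAction

universe u v w

section Der

variable {G : Type u} [Group G] {H : Type v} [Group H]

/-- The derived series of a subgroup inside the whole group. -/
def der (X : Subgroup G) : ℕ → Subgroup G
  | 0 => X
  | i + 1 => ⁅der X i, der X i⁆

theorem der_mono {X Y : Subgroup G} (h : X ≤ Y) : ∀ i, der X i ≤ der Y i
  | 0 => h
  | i + 1 => Subgroup.commutator_mono (der_mono h i) (der_mono h i)

theorem der_le (X : Subgroup G) : ∀ i, der X i ≤ X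
  | 0 => le_rfl
  | i + 1 => (Subgroup.commutator_mono (der_le X i) (der_le X i)).trans (Subgroup.commutator_le_self X)

theorem der_add (X : Subgroup G) (a : ℕ) : ∀ b, der X (a + b) = der (der X a) b
  | 0 => rfl
  | b + 1 => by show ⁅der X (a + b), der X (a + b)⁆ = _; rw [der_add X a b]; rfl

theorem der_anti (X : Subgroup G) {a b : ℕ} (h : a ≤ b) : der X b ≤ der X a := by
  obtain ⟨c, rfl⟩ := Nat.exists_eq_add_of_le h
  rw [der_add]
  exact der_le _ _

theorem map_der (f : G →* H) (X : Subgroup G) : ∀ i, (der X i).map f = der (X.map f) i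
  | 0 => rfl
  | i + 1 => by show ⁅der X i, der X i⁆.map f = _; rw [Subgroup.map_commutator, map_der f X i]; rfl

theorem map_derivedSeries_eq_der (X : Subgroup G) : ∀ i, (derivedSeries ↥X i).map X.subtype = der X i
  | 0 => by rw [derivedSeries_zero, ← MonoidHom.range_eq_map, X.range_subtype]; rfl
  | i + 1 => by rw [derivedSeries_succ, Subgroup.map_commutator, map_derivedSeries_eq_der X i]; rfl

end Der

section DLdef

variable {G : Type u} [Group G]

/-- The `n`th derived subgroup of `X` acts trivially on `V`. -/
def DL (V : Type v) [MulAction G V] (X : Subgroup G) (n : ℕ) : Prop :=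
  ∀ g ∈ der X n, ∀ x : V, g • x = x

variable {V : Type v} [MulAction G V]

theorem DL.mono {X Y : Subgroup G} {n k : ℕ} (h : DL V Y n) (hX : X ≤ Y) (hn : n ≤ k) :
    DL V X k := fun g hg => h g (der_mono hX n (der_anti X hn hg))

theorem DL.trans {X Y : Subgroup G} {a b : ℕ} (h1 : der X a ≤ Y) (h2 : DL V Y b) :
    DL V X (a + b) := fun g hg => h2 g (der_mono h1 b (by rwa [← der_add]))

/-- A subgroup inducing a commutative group has length one. -/
theorem DL.of_comm {X : Subgroup G} (h : ∀ g ∈ X, ∀ k ∈ X, ∀ x : V, g • k • x = k • g • x) :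
    DL V X 1 := by
  intro g hg
  have hle : der X 1 ≤ (MulAction.toPermHom G V).ker := by
    refine Subgroup.commutator_le.2 fun a ha b hb => ?_
    rw [MonoidHom.mem_ker, map_commutatorElement, commutatorElement_eq_one_iff_mul_comm]
    exact Equiv.ext fun x => h a ha b hb x
  exact fun x => congrArg (fun σ : Equiv.Perm V => σ x) (hle hg)

theorem DL.derivedSeries_eq_bot [FaithfulSMul G V] {X : Subgroup G} {n : ℕ} (h : DL V X n) :
    derivedSeries ↥X n = ⊥ := by
  refine (Subgroup.eq_bot_iff_forall _).2 fun g hg => Subtype.ext (eq_of_smul_eq_smul fun x : V => ?_)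
  rw [OneMemClass.coe_one, one_smul]
  exact h _ (by rw [← map_derivedSeries_eq_der]; exact ⟨g, hg, rfl⟩) x

/-- Passing to another group and set along a homomorphism. -/
theorem DL.of_hom {H : Type w} [Group H] {W : Type*} [MulAction H W] (f : G →* H) (i : V → W)
    (hi : Function.Injective i) (hf : ∀ (g : G) (x : V), i (g • x) = f g • i x) {X : Subgroup G}
    {n : ℕ} (h : DL W (X.map f) n) : DL V X n := fun g hg x =>
  hi (by rw [hf]; exact h (f g) (by rw [← map_der]; exact ⟨g, hg, rfl⟩) (i x))

/-- An orbit. -/
def orbitSub (x : V) : SubMulAction G V :=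
  ⟨orbit G x, fun g {y} hy => by rw [← orbit_eq_iff.2 hy]; exact mem_orbit y g⟩

end DLdef

/-- Every solvable completely reducible group on at most `N` vectors has length at most `n`. -/
def LinB (N n : ℕ) : Prop :=
  ∀ (A : Type u) [Group A] [Finite A] (V : Type u) [AddCommGroup V] [Finite V] [DistribMulAction A V],
    Nat.card V ≤ N → Group.IsSolvable A → IsCR A V → DL V (⊤ : Subgroup A) n

/-- Every solvable group on at most `N` points has length at most `n`. -/
def PermB (N n : ℕ) : Prop :=
  ∀ (G : Type u) [Group G] [Finite G] (X : Type u) [Finite X] [MulAction G X],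
    Nat.card X ≤ N → Group.IsSolvable G → DL X (⊤ : Subgroup G) n

theorem PermB.mono {N n N' n' : ℕ} (h : PermB.{u} N n) (hN : N' ≤ N) (hn : n ≤ n') :
    PermB.{u} N' n' := fun G _ _ X _ _ hX hs => (h G X (hX.trans hN) hs).mono le_rfl hn

theorem LinB.mono {N n N' n' : ℕ} (h : LinB.{u} N n) (hN : N' ≤ N) (hn : n ≤ n') :
    LinB.{u} N' n' := fun A _ _ V _ _ _ hV hs hcr => (h A V (hV.trans hN) hs hcr).mono le_rfl hn

section Linear

variable {A : Type u} [Group A] {V : Type v} [AddCommGroup V] [DistribMulAction A V]

/-- Five vectors in different orbits, each with stabiliser of length at most nine. -/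
def Good (A : Type u) [Group A] (V : Type v) [AddCommGroup V] [DistribMulAction A V] : Prop :=
  ∃ t : Fin 5 → V, (∀ i j (g : A), g • t i = t j → i = j) ∧ ∀ i, DL V (stabilizer A (t i)) 9

/-- Otherwise: small length, with a smaller bound for stabilisers and for transitive groups. -/
def Few (A : Type u) [Group A] (V : Type v) [AddCommGroup V] [DistribMulAction A V] : Prop :=
  DL V (⊤ : Subgroup A) 8 ∧ (∀ x : V, x ≠ 0 → DL V (stabilizer A x) 7) ∧
    ((∀ x y : V, x ≠ 0 → y ≠ 0 → ∃ g : A, g • x = y) → DL V (⊤ : Subgroup A) 4)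

theorem map_stabilizer {H : Type w} [Group H] [DistribMulAction H V] {f : A →* H}
    (hf : Function.Surjective f) (h : ∀ (a : A) (x : V), f a • x = a • x) (x : V) :
    (stabilizer A x).map f = stabilizer H x := by
  ext b
  constructor
  · rintro ⟨a, ha, rfl⟩
    exact mem_stabilizer_iff.2 ((h a x).trans ha)
  · intro hb
    obtain ⟨a, rfl⟩ := hf b
    exact ⟨a, mem_stabilizer_iff.2 ((h a x).symm.trans hb), rfl⟩

theorem Good.of_surjective {H : Type w} [Group H] [DistribMulAction H V] {f : A →* H}
    (hf : Function.Surjective f) (h : ∀ (a : A) (x : V), f a • x = a • x) (hg : Good H V) :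
    Good A V := by
  obtain ⟨t, h1, h2⟩ := hg
  refine ⟨t, fun i j g hij => h1 i j (f g) ((h g _).trans hij), fun i => ?_⟩
  exact DL.of_hom f id Function.injective_id (fun a x => (h a x).symm) (by
    rw [map_stabilizer hf h]; exact h2 i)

theorem Few.of_surjective {H : Type w} [Group H] [DistribMulAction H V] {f : A →* H}
    (hf : Function.Surjective f) (h : ∀ (a : A) (x : V), f a • x = a • x) (hg : Few H V) :
    Few A V := by
  obtain ⟨h1, h2, h3⟩ := hg
  refine ⟨DL.of_hom f id Function.injective_id (fun a x => (h a x).symm) (h1.mono le_top le_rfl),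
    fun x hx => DL.of_hom f id Function.injective_id (fun a y => (h a y).symm)
      (by rw [map_stabilizer hf h]; exact h2 x hx),
    fun ht => DL.of_hom f id Function.injective_id (fun a x => (h a x).symm)
      ((h3 fun x y hx hy => ?_).mono le_top le_rfl)⟩
  obtain ⟨g, hg⟩ := ht x y hx hy
  exact ⟨f g, (h g x).trans hg⟩

/-- Length on a sum of two invariant subgroups. -/
theorem DL.of_complement {U W : AddSubgroup V} (hU : IsInv A V U) (hW : IsInv A V W)
    (h2 : U ⊔ W = ⊤) {X : Subgroup A} {n : ℕ} (hu : letI := subAction U hU; DL U X n)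
    (hw : letI := subAction W hW; DL W X n) : DL V X n := by
  intro g hg x
  obtain ⟨y, hy, z, hz, rfl⟩ := exists_add_of_sup_eq_top h2 x
  rw [smul_add]
  exact congrArg₂ (· + ·) (congrArg Subtype.val (hu g hg ⟨y, hy⟩))
    (congrArg Subtype.val (hw g hg ⟨z, hz⟩))

end Linear

end Cfsg.Agent.StabilizerLength
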