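import Cfsg.Agent.Lib.StabilizerLength.DesignData

/-!
# Colourings for primitive solvable groups

* `hasTwo`: five two-colourings whose stabilisers have length at most five.
* `hasThree`: five three-colourings, with length at most one, or two when the special colour is absent.
-/

set_option autoImplicit false
set_option linter.style.haveILetI false
set_option linter.unusedSectionVars false

namespace Cfsg.Agent.StabilizerLength

open MulAction

universe u

variable {G : Type u} [Group G] [Finite G] {X : Type u} [Finite X] [MulAction G X]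

/-- Colour of the points of a finite set. -/
def setCol {κ : Type*} [DecidableEq X] (S : Finset X) (α β : κ) (x : X) : κ := if x ∈ S then α else β

theorem card_setCol {κ : Type*} [DecidableEq X] (S : Finset X) {α β : κ} (h : α ≠ β) :
    Nat.card {x // setCol S α β x = α} = S.card := by
  have e : ∀ x, setCol S α β x = α ↔ x ∈ S := fun x => by
    unfold setCol; split_ifs with hx <;> simp [hx, h.symm]
  rw [Nat.card_congr (Equiv.subtypeEquivRight e), Nat.card_eq_fintype_card, Fintype.card_coe]

theorem mem_of_colStab_setCol {κ : Type*} [DecidableEq X] {S : Finset X} {α β : κ} (h : α ≠ β)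
    {g : G} (hg : g ∈ colStab G (setCol S α β)) {x : X} (hx : x ∈ S) : g • x ∈ S := by
  have h1 := mem_colStab.1 hg x
  simp only [setCol, if_pos hx] at h1
  split_ifs at h1 with h2
  · exact h2
  · exact absurd h1 h.symm

/-- Sets of five sizes give five inequivalent colourings. -/
theorem exists_sets (s : Fin 5 → ℕ) (hle : ∀ i, s i ≤ Nat.card X) {U : Finset X}
    (hU : ∀ i, U.card ≤ s i) : ∃ S : Fin 5 → Finset X, ∀ i, (S i).card = s i ∧ U ⊆ S i := by
  haveI := Fintype.ofFinite X
  have h : ∀ i, ∃ S : Finset X, U ⊆ S ∧ S ⊆ Finset.univ ∧ S.card = s i := fun i =>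
    Finset.exists_subsuperset_card_eq (Finset.subset_univ U) (hU i)
      (by rw [Finset.card_univ, ← Nat.card_eq_fintype_card]; exact hle i)
  choose S h1 _ h3 using h
  exact ⟨S, fun i => ⟨h3 i, h1 i⟩⟩

theorem hasTwo_of_dl (h4 : 4 ≤ Nat.card X) (hdl : DL X (⊤ : Subgroup G) 5) : HasTwo G X := by
  classical
  obtain ⟨S, hS⟩ := exists_sets (X := X) (fun i : Fin 5 => (i : ℕ)) (fun i => by have := i.2; omega)
    (U := ∅) (fun i => by simp)
  refine ⟨fun i => setCol (S i) true false, inequiv_of_count _ fun i j hij => ⟨true, ?_⟩,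
    fun i => hdl.mono le_top le_rfl⟩
  rw [card_setCol _ (by decide), card_setCol _ (by decide), (hS i).1, (hS j).1]
  exact fun h => hij (Fin.ext h)

theorem hasThree_of_dl_two (h4 : 4 ≤ Nat.card X) (hdl : DL X (⊤ : Subgroup G) 2) : HasThree G X := by
  classical
  obtain ⟨S, hS⟩ := exists_sets (X := X) (fun i : Fin 5 => (i : ℕ)) (fun i => by have := i.2; omega)
    (U := ∅) (fun i => by simp)
  refine ⟨fun i => setCol (S i) (1 : Fin 3) 2, inequiv_of_count _ fun i j hij => ⟨1, ?_⟩,
    fun i => Or.inl ⟨fun x => ?_, hdl.mono le_top le_rfl⟩⟩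
  · rw [card_setCol _ (by decide), card_setCol _ (by decide), (hS i).1, (hS j).1]
    exact fun h => hij (Fin.ext h)
  · show setCol (S i) (1 : Fin 3) 2 x ≠ 0
    unfold setCol; split_ifs <;> decide

theorem card_fibre (f : X → Fin 3) :
    Nat.card {x // f x = 0} + Nat.card {x // f x = 1} + Nat.card {x // f x = 2} = Nat.card X := by
  rw [← Nat.card_congr (Equiv.sigmaFiberEquiv f), Nat.card_sigma, Fin.sum_univ_three]

theorem hasThree_two (hsol : Group.IsSolvable G) (hX : Nat.card X = 2) : HasThree G X := by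
  classical
  have hdl := permB_two G X hX.le hsol
  obtain ⟨e⟩ : Nonempty (X ≃ Fin 2) := ⟨(Finite.equivFin X).trans (finCongr hX)⟩
  let f : Fin 5 → Fin 2 → Fin 3 := ![![0, 1], ![0, 2], ![1, 2], ![1, 1], ![2, 2]]
  refine ⟨fun i x => f i (e x), inequiv_of_count _ fun i j hij => ?_,
    fun i => Or.inr (hdl.mono le_top le_rfl)⟩
  have h : ∀ i j : Fin 5, i ≠ j → ∃ a, (Finset.univ.filter fun k => f i k = a).card ≠
      (Finset.univ.filter fun k => f j k = a).card := by decide
  obtain ⟨a, ha⟩ := h i j hij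
  refine ⟨a, fun he => ha ?_⟩
  rwa [Nat.card_congr (e.subtypeEquiv (p := fun x => f i (e x) = a) (q := fun k => f i k = a)
      fun x => Iff.rfl),
    Nat.card_congr (e.subtypeEquiv (p := fun x => f j (e x) = a) (q := fun k => f j k = a)
      fun x => Iff.rfl), Nat.card_eq_fintype_card, Nat.card_eq_fintype_card, Fintype.card_subtype,
    Fintype.card_subtype] at he

theorem hasThree_three (hsol : Group.IsSolvable G) (hX : Nat.card X = 3) : HasThree G X := by
  classical
  have hdl := permB_three G X hX.le hsol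
  obtain ⟨e⟩ : Nonempty (X ≃ Fin 3) := ⟨(Finite.equivFin X).trans (finCongr hX)⟩
  let f : Fin 5 → Fin 3 → Fin 3 := ![![1, 1, 1], ![1, 1, 2], ![1, 2, 2], ![2, 2, 2], ![0, 1, 2]]
  refine ⟨fun i x => f i (e x), inequiv_of_count _ fun i j hij => ?_, fun i => ?_⟩
  · have h : ∀ i j : Fin 5, i ≠ j → ∃ a, (Finset.univ.filter fun k => f i k = a).card ≠
        (Finset.univ.filter fun k => f j k = a).card := by decide
    obtain ⟨a, ha⟩ := h i j hij
    refine ⟨a, fun he => ha ?_⟩
    rwa [Nat.card_congr (e.subtypeEquiv (p := fun x => f i (e x) = a) (q := fun k => f i k = a)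
        fun x => Iff.rfl),
      Nat.card_congr (e.subtypeEquiv (p := fun x => f j (e x) = a) (q := fun k => f j k = a)
        fun x => Iff.rfl), Nat.card_eq_fintype_card, Nat.card_eq_fintype_card, Fintype.card_subtype,
      Fintype.card_subtype] at he
  · rcases (show i ≠ 4 ∨ i = 4 by tauto) with hi | rfl
    · refine Or.inl ⟨fun x => ?_, hdl.mono le_top le_rfl⟩
      have h : ∀ i : Fin 5, i ≠ 4 → ∀ k, f i k ≠ 0 := by decide
      exact h i hi _
    · refine Or.inr fun g hg x => e.injective ?_
      have h : ∀ k, f 4 k = k := by decide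
      have h1 := mem_colStab.1 (der_le _ _ hg) x
      simp only [h] at h1
      exact h1

/-! ### Counting -/

theorem gap_arith : ∀ m, 81 ≤ m → 2 * m ^ 4 ≤ 2 ^ (m - (m + m / 3 + 1) / 2) := by
  intro m
  induction m using Nat.strong_induction_on with
  | _ m ih =>
  intro hm
  by_cases h : m < 84
  · interval_cases m <;> norm_num
  obtain ⟨j, rfl⟩ := Nat.exists_eq_add_of_le' (show 3 ≤ m by omega)
  have h1 := ih j (by omega) (by omega)
  have h2 : (j + 3) ^ 4 ≤ 2 * j ^ 4 := by
    have hj : 81 ≤ j := by omega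
    have ha : (10 * (j + 3)) ^ 4 ≤ (11 * j) ^ 4 := Nat.pow_le_pow_left (by omega) 4
    rw [mul_pow, mul_pow] at ha
    norm_num at ha
    omega
  have hexp : j - (j + j / 3 + 1) / 2 + 1 ≤ j + 3 - (j + 3 + (j + 3) / 3 + 1) / 2 := by omega
  refine le_trans ?_ (Nat.pow_le_pow_right two_pos hexp)
  rw [pow_succ 2]
  omega

theorem gap_arith_two : ∀ a, 7 ≤ a → 4 * a + 1 ≤ 2 ^ (a - 2) := by
  intro a ha
  induction a, ha using Nat.le_induction with
  | base => norm_num
  | succ n hn ih =>
    rw [show n + 1 - 2 = n - 2 + 1 by omega, pow_succ]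
    omega

/-- The degrees large enough for counting. -/
theorem exists_bound {p a k : ℕ} (hp : p.Prime) (hk : 2 ≤ k) (hm : 81 ≤ p ^ a ∨ (k = 3 ∧ p ^ a = 64)) :
    ∃ c, p ^ a / p + p ^ a ≤ 2 * c ∧ c ≤ p ^ a ∧ 2 * (p ^ a) ^ 4 ≤ k ^ (p ^ a - c) ∧ 5 ≤ k ^ c := by
  rcases Nat.eq_zero_or_pos a with h0 | hapos
  · subst h0; simp at hm
  have h5 : ∀ c, 3 ≤ c → 5 ≤ k ^ c := fun c hc => le_trans (le_trans (by norm_num)
    (Nat.pow_le_pow_left hk 3)) (Nat.pow_le_pow_right (by omega) hc)
  rcases hp.eq_two_or_odd with rfl | hodd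
  · obtain ⟨j, rfl⟩ := Nat.exists_eq_succ_of_ne_zero hapos.ne'
    have h64 : 64 ≤ 2 ^ (j + 1) := by omega
    have hj : 5 ≤ j := by
      have := (Nat.pow_le_pow_iff_right (by norm_num : 1 < 2)).1 (show 2 ^ 6 ≤ 2 ^ (j + 1) by simpa)
      omega
    obtain ⟨i, rfl⟩ := Nat.exists_eq_add_of_le' (show 1 ≤ j by omega)
    refine ⟨3 * 2 ^ i, ?_, ?_, ?_, h5 _ (Nat.le_mul_of_pos_right 3 (by positivity))⟩
    · rw [Nat.succ_eq_add_one, pow_succ, Nat.mul_div_cancel _ two_pos, pow_succ]; omega
    · rw [Nat.succ_eq_add_one, pow_succ, pow_succ]; omega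
    rw [show 2 ^ (i + 1 + 1) - 3 * 2 ^ i = 2 ^ i by rw [pow_succ, pow_succ]; omega]
    rcases hm with hm | ⟨rfl, hm⟩
    · refine le_trans ?_ (Nat.pow_le_pow_left hk _)
      rw [← pow_mul, ← pow_succ']
      refine Nat.pow_le_pow_right two_pos ?_
      have hi : 5 ≤ i := by
        by_contra hi
        have : 2 ^ (i + 1 + 1) ≤ 2 ^ 6 := Nat.pow_le_pow_right two_pos (by omega)
        simp only [Nat.succ_eq_add_one] at hm
        omega
      have := gap_arith_two (i + 2) (by omega)
      rw [show i + 2 - 2 = i by omega] at this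
      omega
    · have hi : i = 4 := by
        have := Nat.pow_right_injective le_rfl (show 2 ^ (i + 1 + 1) = 2 ^ 6 by simpa using hm)
        omega
      subst hi
      norm_num
  · rcases hm with hm | ⟨-, hm⟩
    · have h3 : 3 ≤ p := by have := hp.two_le; omega
      refine ⟨(p ^ a + p ^ a / 3 + 1) / 2, ?_, by omega,
        (gap_arith _ hm).trans (Nat.pow_le_pow_left hk _), h5 _ (by omega)⟩
      have : p ^ a / p ≤ p ^ a / 3 := Nat.div_le_div_left h3 (by norm_num)
      omega
    · exfalso
      have h2 : 2 ∣ p := Nat.prime_two.dvd_of_dvd_pow (n := a) (hm ▸ by norm_num)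
      omega

theorem five_of_affine [FaithfulSMul G X] (T : Affine G X) (hsol : Group.IsSolvable G) {p a k : ℕ}
    (hp : p.Prime) (hX : Nat.card X = p ^ a) (hk : 2 ≤ k)
    (hm : 81 ≤ p ^ a ∨ (k = 3 ∧ p ^ a = 64)) :
    ∃ col : Fin 5 → X → Fin k, Inequiv G col ∧ ∀ i, colStab G (col i) = ⊥ := by
  obtain ⟨c, hc, hcm, hgap, h5⟩ := exists_bound hp hk hm
  refine five_of_count (c := c) (by simpa using le_trans (by norm_num) hk) (fun g hg => ?_) ?_
  · have h := T.card_fixed_le hp hX hg
    have : Nat.card {x : X // g • x = x} ≤ p ^ a / p := (Nat.le_div_iff_mul_le hp.pos).2 (by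
      rw [mul_comm, ← hX]; exact h)
    omega
  · rw [Nat.card_fin, hX]
    have hG := T.card_le hsol
    rw [hX] at hG
    calc Nat.card G * k ^ c + 5 * Nat.card G ≤ Nat.card G * k ^ c + k ^ c * Nat.card G :=
          Nat.add_le_add_left (Nat.mul_le_mul_right _ h5) _
      _ = 2 * Nat.card G * k ^ c := by ring
      _ ≤ 2 * (p ^ a) ^ 4 * k ^ c := by gcongr
      _ ≤ k ^ (p ^ a - c) * k ^ c := by gcongr
      _ = k ^ p ^ a := by rw [← pow_add, Nat.sub_add_cancel hcm]

theorem hasTwo_64 (T : Affine G X) (hsol : Group.IsSolvable G) {p a : ℕ} [Fact p.Prime]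
    (φ : T.F ≃+ (Fin a → ZMod p)) (ha : a ≤ 6) (hX : Nat.card X = 64) : HasTwo G X := by
  classical
  let U : Finset X := insert (T.e 0) (Finset.univ.image fun i : Fin a => T.e (φ.symm (Pi.single i 1)))
  have hU : U.card ≤ 7 := by
    refine (Finset.card_insert_le _ _).trans ?_
    have := Finset.card_image_le (s := (Finset.univ : Finset (Fin a)))
      (f := fun i => T.e (φ.symm (Pi.single i 1)))
    rw [Finset.card_univ, Fintype.card_fin] at this
    omega
  obtain ⟨S, hS⟩ := exists_sets (X := X) (fun i : Fin 5 => 7 + (i : ℕ))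
    (fun i => by have := i.2; omega) (U := U) (fun i => by omega)
  refine ⟨fun i => setCol (S i) true false, inequiv_of_count _ fun i j hij => ⟨true, ?_⟩,
    fun i g hg x => ?_⟩
  · rw [card_setCol _ (by decide), card_setCol _ (by decide), (hS i).1, (hS j).1]
    exact fun h => hij (Fin.ext (Nat.add_left_cancel h))
  · have hfix : ∀ y ∈ S i, g • y = y := fun y hy => fix_of_permB hsol permB_15 (S i)
      (by rw [(hS i).1]; have := i.2; omega)
      (fun h hh z hz => mem_of_colStab_setCol (by decide) hh hz) hg hy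
    refine T.smul_eq_of_generators (B := Set.range fun i : Fin a => φ.symm (Pi.single i 1)) ?_
      (hfix _ ((hS i).2 (Finset.mem_insert_self _ _))) ?_ x
    · refine eq_top_iff.2 fun y _ => ?_
      rw [← φ.symm_apply_apply y, ← Finset.univ_sum_single (φ y), map_sum]
      refine sum_mem fun j _ => ?_
      have : (Pi.single j (φ y j) : Fin a → ZMod p) = (φ y j).val • Pi.single j 1 := by
        rw [← Pi.single_smul, nsmul_eq_mul, ZMod.natCast_zmod_val, mul_one]
      rw [this, map_nsmul]
      exact AddSubgroup.nsmul_mem _ (AddSubgroup.subset_closure (Set.mem_range_self j)) _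
    · rintro _ ⟨j, rfl⟩
      exact hfix _ ((hS i).2 (Finset.mem_insert_of_mem
        (Finset.mem_image.2 ⟨j, Finset.mem_univ _, rfl⟩)))

theorem hasThree_four (T : Affine G X) (hsol : Group.IsSolvable G) (hX : Nat.card X = 4) :
    HasThree G X := by
  classical
  haveI := Fintype.ofFinite X
  obtain ⟨e⟩ : Nonempty (X ≃ Fin 4) := ⟨(Finite.equivFin X).trans (finCongr hX)⟩
  let f : Fin 5 → Fin 4 → Fin 3 :=
    ![![1, 2, 2, 2], ![2, 1, 1, 1], ![0, 1, 2, 2], ![0, 1, 1, 2], ![0, 0, 1, 2]]
  refine ⟨fun i x => f i (e x), inequiv_of_count _ fun i j hij => ?_, fun i => ?_⟩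
  · have h : ∀ i j : Fin 5, i ≠ j → ∃ a, (Finset.univ.filter fun k => f i k = a).card ≠
        (Finset.univ.filter fun k => f j k = a).card := by decide
    obtain ⟨a, ha⟩ := h i j hij
    refine ⟨a, fun he => ha ?_⟩
    rwa [Nat.card_congr (e.subtypeEquiv (p := fun x => f i (e x) = a) (q := fun k => f i k = a)
        fun x => Iff.rfl),
      Nat.card_congr (e.subtypeEquiv (p := fun x => f j (e x) = a) (q := fun k => f j k = a)
        fun x => Iff.rfl), Nat.card_eq_fintype_card, Nat.card_eq_fintype_card, Fintype.card_subtype,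
      Fintype.card_subtype] at he
  by_cases hi : i = 0 ∨ i = 1
  · refine Or.inl ⟨fun x => ?_, ?_⟩
    · have h : ∀ i : Fin 5, (i = 0 ∨ i = 1) → ∀ k, f i k ≠ 0 := by decide
      exact h i hi _
    · refine T.dl_of_coprime hsol (linB_8.mono (by omega) le_rfl) (B := {T.e.symm (e.symm 0)})
        (fun g hg a ha => ?_) (by simp)
      rw [Finset.mem_singleton] at ha ⊢
      have h1 := mem_colStab.1 hg (e.symm 0)
      simp only [e.apply_symm_apply] at h1
      have h : ∀ i : Fin 5, (i = 0 ∨ i = 1) → ∀ k, f i k = f i 0 → k = 0 := by decide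
      have h2 := e.eq_symm_apply.2 (h i hi _ h1)
      rw [ha, T.e.eq_symm_apply, ← T.smul_eq, T.e.apply_symm_apply]
      exact h2
  · refine Or.inr fun g hg x => ?_
    let S : Finset X := Finset.univ.filter fun y => f i (e y) = f i (e x)
    refine fix_of_permB hsol permB_two S ?_ (fun h hh z hz => ?_) hg
      (Finset.mem_filter.2 ⟨Finset.mem_univ _, rfl⟩)
    · have h : ∀ i : Fin 5, ¬ (i = 0 ∨ i = 1) → ∀ k,
          (Finset.univ.filter fun l => f i l = f i k).card ≤ 2 := by decide
      refine le_trans (le_of_eq ?_) (h i hi (e x))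
      exact Finset.card_equiv e (fun y => by simp [S])
    · simp only [S, Finset.mem_filter, Finset.mem_univ, true_and] at hz ⊢
      exact (mem_colStab.1 hh z).trans hz

theorem hasThree_eight (T : Affine G X) (hsol : Group.IsSolvable G) {p : ℕ} [Fact p.Prime]
    (φ : T.F ≃+ (Fin 3 → ZMod p)) (hX : Nat.card X = 8) : HasThree G X := by
  classical
  haveI := Fintype.ofFinite X
  let pt : Fin 3 → X := fun i => T.e (φ.symm (Pi.single i 1))
  have hpt : Function.Injective pt := fun i j h => by
    have h1 : (Pi.single i (1 : ZMod p) : Fin 3 → ZMod p) = Pi.single j 1 :=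
      φ.symm.injective (T.e.injective h)
    by_contra hne
    have := congrFun h1 i
    rw [Pi.single_eq_same, Pi.single_eq_of_ne hne] at this
    exact one_ne_zero this
  have h0 : ∀ i, T.e 0 ≠ pt i := fun i h => by
    have h1 : (0 : Fin 3 → ZMod p) = Pi.single i 1 :=
      φ.symm.injective (by rw [map_zero]; exact T.e.injective h)
    have := congrFun h1 i
    rw [Pi.single_eq_same] at this
    exact zero_ne_one this
  let A : Finset X := {T.e 0, pt 0}
  let B : Finset X := {pt 1, pt 2}
  have hA : A.card = 2 := Finset.card_pair (h0 0)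
  have hB : B.card = 2 := Finset.card_pair (hpt.ne (by decide))
  have hAB : ∀ x ∈ B, x ∉ A := fun x hx hxA => by
    simp only [A, B, Finset.mem_insert, Finset.mem_singleton] at hx hxA
    rcases hx with rfl | rfl <;> rcases hxA with h | h
    · exact h0 1 h.symm
    · exact absurd (hpt h) (by decide)
    · exact h0 2 h.symm
    · exact absurd (hpt h) (by decide)
  let f4 : X → Fin 3 := fun x => if x ∈ A then 0 else if x ∈ B then 1 else 2
  obtain ⟨S, hS⟩ := exists_sets (X := X) (fun i : Fin 5 => ![1, 3, 5, 7, 0] i)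
    (fun i => by rw [hX]; revert i; decide) (U := ∅) (fun i => by simp)
  let c : Fin 5 → X → Fin 3 := fun i => if i = 4 then f4 else setCol (S i) 1 2
  have e0 : ∀ x, f4 x = 0 ↔ x ∈ A := fun x => by simp only [f4]; split_ifs <;> simp_all
  have hc0 : ∀ i : Fin 5, i ≠ 4 → ∀ x, c i x ≠ 0 := fun i hi x => by
    simp only [c, if_neg hi, setCol]; split_ifs <;> decide
  refine ⟨c, inequiv_of_count _ fun i j hij => ?_, fun i => ?_⟩
  · by_cases hi : i = 4
    · refine ⟨0, ?_⟩
      rw [Nat.card_congr (Equiv.subtypeEquivRight (q := fun x => x ∈ A) fun x => by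
          simp only [c, if_pos hi]; exact e0 x), Nat.card_eq_fintype_card, Fintype.card_coe, hA]
      have : IsEmpty {x // c j x = 0} := ⟨fun x => hc0 j (fun h => hij (hi.trans h.symm)) x.1 x.2⟩
      simp
    by_cases hj : j = 4
    · refine ⟨0, ?_⟩
      rw [Nat.card_congr (Equiv.subtypeEquivRight (p := fun x => c j x = 0) (q := fun x => x ∈ A)
          fun x => by simp only [c, if_pos hj]; exact e0 x),
        Nat.card_eq_fintype_card (α := {x // x ∈ A}), Fintype.card_coe, hA]
      have : IsEmpty {x // c i x = 0} := ⟨fun x => hc0 i hi x.1 x.2⟩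
      simp
    refine ⟨1, ?_⟩
    simp only [c, if_neg hi, if_neg hj]
    rw [card_setCol _ (by decide), card_setCol _ (by decide), (hS i).1, (hS j).1]
    revert i j; decide
  by_cases hi : i = 4
  · refine Or.inr fun g hg x => ?_
    simp only [c, if_pos hi] at hg
    have hfA : ∀ y ∈ A, g • y = y := fun y hy => fix_of_permB hsol permB_two A hA.le
      (fun h hh z hz => (e0 _).1 ((mem_colStab.1 hh z).trans ((e0 z).2 hz))) hg hy
    have e1 : ∀ x, f4 x = 1 ↔ x ∈ B := fun x => by
      by_cases hx : x ∈ A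
      · simp only [f4, if_pos hx]
        exact ⟨fun h => absurd h (by decide), fun h => absurd hx (hAB x h)⟩
      · simp only [f4, if_neg hx]; split_ifs <;> simp_all
    have hfB : ∀ y ∈ B, g • y = y := fun y hy => fix_of_permB hsol permB_two B hB.le
      (fun h hh z hz => (e1 _).1 ((mem_colStab.1 hh z).trans ((e1 z).2 hz))) hg hy
    refine T.smul_eq_of_generators (B := Set.range fun i : Fin 3 => φ.symm (Pi.single i 1)) ?_
      (hfA _ (by simp [A])) ?_ x
    · refine eq_top_iff.2 fun y _ => ?_
      rw [← φ.symm_apply_apply y, ← Finset.univ_sum_single (φ y), map_sum]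
      refine sum_mem fun j _ => ?_
      have : (Pi.single j (φ y j) : Fin 3 → ZMod p) = (φ y j).val • Pi.single j 1 := by
        rw [← Pi.single_smul, nsmul_eq_mul, ZMod.natCast_zmod_val, mul_one]
      rw [this, map_nsmul]
      exact AddSubgroup.nsmul_mem _ (AddSubgroup.subset_closure (Set.mem_range_self j)) _
    · rintro _ ⟨j, rfl⟩
      fin_cases j
      · exact hfA _ (by simp [A, pt])
      · exact hfB _ (by simp [B, pt])
      · exact hfB _ (by simp [B, pt])
  · refine Or.inl ⟨hc0 i hi, ?_⟩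
    refine T.dl_of_coprime hsol (linB_8.mono hX.le le_rfl) (B := (S i).image T.e.symm)
      (fun g hg a ha => ?_) ?_
    · obtain ⟨x, hx, rfl⟩ := Finset.mem_image.1 ha
      refine Finset.mem_image.2 ⟨g • x, ?_, ?_⟩
      · simp only [c, if_neg hi] at hg
        exact mem_of_colStab_setCol (by decide) hg hx
      · rw [T.e.symm_apply_eq, ← T.smul_eq, T.e.apply_symm_apply]
    · rw [Finset.card_image_of_injective _ T.e.symm.injective, (hS i).1, hX]
      fin_cases i <;> first | exact absurd rfl hi | decide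

/-- Non-prime prime powers below 81. -/
theorem prime_pow_cases {p a : ℕ} (hp : p.Prime) (ha : 2 ≤ a) (h : p ^ a < 81) :
    (p = 2 ∧ a ≤ 6) ∨ (p = 3 ∧ a ≤ 3) ∨ (a = 2 ∧ (p = 5 ∨ p = 7)) := by
  have hp2 : p ^ 2 < 81 := (Nat.pow_le_pow_right hp.pos ha).trans_lt h
  have hp9 : p < 9 := by nlinarith
  have ha7 : a ≤ 6 := by
    have h1 := (Nat.pow_le_pow_left hp.two_le a).trans_lt h
    have := (Nat.pow_lt_pow_iff_right (by norm_num : 1 < 2)).1
      (h1.trans (by norm_num : 81 < 2 ^ 7))
    omega
  interval_cases p <;> interval_cases a <;>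
    first | omega | exact absurd hp (by norm_num) | exact absurd h (by norm_num) | simp

theorem hasTwo_affine [FaithfulSMul G X] (T : Affine G X) (hsol : Group.IsSolvable G)
    (h4 : 4 ≤ Nat.card X) : HasTwo G X := by
  haveI : Nontrivial X := Finite.one_lt_card_iff_nontrivial.1 (by omega)
  obtain ⟨p, a, hpf, ha, hX, ⟨φ⟩⟩ := T.exists_coords
  have hp := hpf.out
  by_cases h63 : Nat.card X ≤ 63
  · exact hasTwo_of_dl h4 ((T.dl_top hsol (linB_63.mono h63 le_rfl)).mono le_rfl le_rfl)
  by_cases ha1 : a = 1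
  · refine hasTwo_of_dl h4 ?_
    letI := T.action
    have hprime : (Nat.card T.F).Prime := by rw [T.card_F, hX, ha1, pow_one]; exact hp
    refine DL.mono (DL.trans (a := 1) (b := 1) le_rfl (DL.of_comm fun g hg g' hg' x => ?_))
      le_rfl (by norm_num)
    obtain ⟨y, rfl⟩ := T.e.surjective x
    have hl : ∀ g ∈ der (⊤ : Subgroup G) 1, T.lin g = 1 := fun g hg =>
      AddMonoidHom.ext fun z => dl_of_prime_card hprime ⊤ g hg z
    rw [T.smul_of_lin_eq_one (hl g' hg'), T.smul_of_lin_eq_one (hl g hg),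
      T.smul_of_lin_eq_one (hl g hg), T.smul_of_lin_eq_one (hl g' hg'), add_right_comm]
  by_cases h81 : 81 ≤ p ^ a
  · obtain ⟨col, h1, h2⟩ := five_of_affine T hsol hp hX le_rfl (Or.inl h81)
    refine ⟨fun i x => finTwoEquiv (col i x), fun i j g hg => h1 i j g fun x =>
      finTwoEquiv.injective (hg x), fun i g hg x => ?_⟩
    have h3 : g ∈ colStab G (col i) := fun y =>
      finTwoEquiv.injective (mem_colStab.1 (der_le _ _ hg) y)
    rw [h2] at h3
    rw [Subgroup.mem_bot.1 h3, one_smul]
  · have := prime_pow_cases hp (show 2 ≤ a by omega) (show p ^ a < 81 by omega)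
    rcases this with ⟨rfl, ha6⟩ | ⟨rfl, ha3⟩ | ⟨rfl, rfl | rfl⟩
    · refine hasTwo_64 T hsol φ ha6 ?_
      rw [hX] at h63 ⊢
      interval_cases a <;> first | omega | norm_num at *
    · rw [hX] at h63
      interval_cases a <;> norm_num at h63
    · rw [hX] at h63; norm_num at h63
    · rw [hX] at h63; norm_num at h63

theorem hasThree_affine [FaithfulSMul G X] (T : Affine G X) (hsol : Group.IsSolvable G)
    (h2 : 2 ≤ Nat.card X) : HasThree G X := by
  haveI : Nontrivial X := Finite.one_lt_card_iff_nontrivial.1 (by omega)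
  obtain ⟨p, a, hpf, ha, hX, ⟨φ⟩⟩ := T.exists_coords
  have hp := hpf.out
  by_cases h22 : Nat.card X = 2
  · exact hasThree_two hsol h22
  by_cases h3 : Nat.card X = 3
  · exact hasThree_three hsol h3
  by_cases ha1 : a = 1
  · refine hasThree_of_dl_two (by omega) ?_
    letI := T.action
    have hprime : (Nat.card T.F).Prime := by rw [T.card_F, hX, ha1, pow_one]; exact hp
    refine DL.trans (a := 1) (b := 1) le_rfl (DL.of_comm fun g hg g' hg' x => ?_)
    obtain ⟨y, rfl⟩ := T.e.surjective x
    have hl : ∀ g ∈ der (⊤ : Subgroup G) 1, T.lin g = 1 := fun g hg =>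
      AddMonoidHom.ext fun z => dl_of_prime_card hprime ⊤ g hg z
    rw [T.smul_of_lin_eq_one (hl g' hg'), T.smul_of_lin_eq_one (hl g hg),
      T.smul_of_lin_eq_one (hl g hg), T.smul_of_lin_eq_one (hl g' hg'), add_right_comm]
  by_cases hbig : 81 ≤ p ^ a ∨ p ^ a = 64
  · obtain ⟨col, h1, h2⟩ := five_of_affine T hsol hp hX (k := 3) (by norm_num)
      (hbig.imp_right fun h => ⟨rfl, h⟩)
    refine ⟨col, h1, fun i => Or.inr fun g hg x => ?_⟩
    have h4 : g ∈ colStab G (col i) := der_le _ _ hg
    rw [h2] at h4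
    rw [Subgroup.mem_bot.1 h4, one_smul]
  push Not at hbig
  rcases prime_pow_cases hp (by omega) hbig.1 with ⟨rfl, ha6⟩ | ⟨rfl, ha3⟩ | ⟨rfl, rfl | rfl⟩
  · obtain rfl | rfl | rfl | rfl : a = 2 ∨ a = 3 ∨ a = 4 ∨ a = 5 := by
      rcases (show a = 6 ∨ a ≤ 5 by omega) with rfl | h
      · exact absurd rfl hbig.2
      · omega
    · exact hasThree_four T hsol (hX.trans (by norm_num))
    · exact hasThree_eight T hsol φ (hX.trans (by norm_num))
    · obtain ⟨D⟩ := design_16
      exact hasThree_of_design T φ hX D (by norm_num) (by norm_num) (by norm_num)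
    · obtain ⟨D⟩ := design_32
      exact hasThree_of_design T φ hX D (by norm_num) (by norm_num) (by norm_num)
  · obtain rfl | rfl : a = 2 ∨ a = 3 := by omega
    · obtain ⟨D⟩ := design_plane 3
      exact hasThree_of_design T φ hX D (by norm_num) (by norm_num) (by norm_num)
    · obtain ⟨D⟩ := design_27
      exact hasThree_of_design T φ hX D (by norm_num) (by norm_num) (by norm_num)
  · obtain ⟨D⟩ := design_plane 5
    exact hasThree_of_design T φ hX D (by norm_num) (by norm_num) (by norm_num)
  · obtain ⟨D⟩ := design_plane 7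
    exact hasThree_of_design T φ hX D (by norm_num) (by norm_num) (by norm_num)

/-- Primitive actions, faithful or not. -/
theorem hasTwo_hasThree [IsPretransitive G X] (hsol : Group.IsSolvable G) {x₀ : X}
    (hmax : IsCoatom (stabilizer G x₀)) :
    (4 ≤ Nat.card X → HasTwo G X) ∧ (2 ≤ Nat.card X → HasThree G X) := by
  haveI := hsol
  set f := (MulAction.toPermHom G X).rangeRestrict with hf
  have hfs : Function.Surjective f := MonoidHom.rangeRestrict_surjective _
  haveI : IsPretransitive (MulAction.toPermHom G X).range X := ⟨fun a b => by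
    obtain ⟨g, hg⟩ := exists_smul_eq G a b
    exact ⟨f g, hg⟩⟩
  have hcomap : (stabilizer (MulAction.toPermHom G X).range x₀).comap f = stabilizer G x₀ := by
    ext g; rfl
  have hmax' : IsCoatom (stabilizer (MulAction.toPermHom G X).range x₀) := by
    refine ⟨fun h => hmax.1 (by rw [← hcomap, h, Subgroup.comap_top]), fun L hL => ?_⟩
    have h1 : stabilizer G x₀ ≤ L.comap f := hcomap ▸ Subgroup.comap_mono hL.le
    rcases h1.lt_or_eq with h2 | h2
    · exact Subgroup.comap_injective hfs ((hmax.2 _ h2).trans (Subgroup.comap_top f).symm)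
    · exact absurd (Subgroup.comap_injective hfs (hcomap.trans h2)) hL.ne
  have hsolR : Group.IsSolvable (MulAction.toPermHom G X).range := Group.isSolvable_of_surjective hfs
  obtain ⟨T⟩ := exists_affine hsolR hmax'
  exact ⟨fun h => (hasTwo_affine T hsolR h).of_hom (f := f) fun _ _ => rfl,
    fun h => (hasThree_affine T hsolR h).of_hom (f := f) fun _ _ => rfl⟩

end Cfsg.Agent.StabilizerLength
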