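import Cfsg.Agent.Lib.StabilizerLength.Tables
import Mathlib.Data.Fintype.BigOperators
import Mathlib.Data.Fin.SuccPred
import Mathlib.Data.Finset.Card

/-!
# Colourings with small stabilisers: tools

* `five_of_count`: five inequivalent colourings fixed by nothing but the identity.
* `inequiv_of_count`: colourings with different numbers are inequivalent.
* `Affine.exists_coords`, `Affine.card_le`, `Affine.card_fixed_le`.
-/

set_option autoImplicit false
set_option linter.style.haveILetI false
set_option linter.unusedSectionVars false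

namespace Cfsg.Agent.StabilizerLength

open OddBaseTwo MulAction

universe u v

section Col

variable (G : Type u) [Group G] {X : Type u} [MulAction G X] {κ : Type v}

/-- The stabiliser of a colouring. -/
def colStab (f : X → κ) : Subgroup G where
  carrier := {g | ∀ x, f (g • x) = f x}
  one_mem' x := by rw [one_smul]
  mul_mem' {g h} hg hh x := by rw [mul_smul, hg, hh]
  inv_mem' {g} hg x := by rw [← hg (g⁻¹ • x), smul_inv_smul]

/-- No element carries one colouring to another. -/
def Inequiv {n : ℕ} (c : Fin n → X → κ) : Prop :=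
  ∀ i j (g : G), (∀ x, c j (g • x) = c i x) → i = j

/-- Five colourings with two colours. -/
def HasTwo (X : Type u) [MulAction G X] : Prop :=
  ∃ c : Fin 5 → X → Bool, Inequiv G c ∧ ∀ i, DL X (colStab G (c i)) 5

/-- Five colourings with three colours, one of them special. -/
def HasThree (X : Type u) [MulAction G X] : Prop :=
  ∃ c : Fin 5 → X → Fin 3, Inequiv G c ∧ ∀ i,
    ((∀ x, c i x ≠ 0) ∧ DL X (colStab G (c i)) 2) ∨ DL X (colStab G (c i)) 1

variable {G}

theorem mem_colStab {f : X → κ} {g : G} : g ∈ colStab G f ↔ ∀ x, f (g • x) = f x := Iff.rfl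

theorem inequiv_of_count {n : ℕ} (c : Fin n → X → κ)
    (h : ∀ i j, i ≠ j → ∃ a, Nat.card {x // c i x = a} ≠ Nat.card {x // c j x = a}) :
    Inequiv G c := by
  intro i j g hg
  by_contra hne
  obtain ⟨a, ha⟩ := h i j hne
  refine ha (Nat.card_congr ((MulAction.toPerm g).subtypeEquiv fun x => ?_))
  show c i x = a ↔ c j (g • x) = a
  rw [hg]

theorem colStab_map_le {H : Type u} [Group H] [MulAction H X] {f : G →* H}
    (h : ∀ (g : G) (x : X), f g • x = g • x) (c : X → κ) : (colStab G c).map f ≤ colStab H c := by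
  rintro _ ⟨g, hg, rfl⟩ x
  rw [h]
  exact hg x

theorem HasTwo.of_hom {H : Type u} [Group H] [MulAction H X] {f : G →* H}
    (h : ∀ (g : G) (x : X), f g • x = g • x) (hc : HasTwo H X) : HasTwo G X := by
  obtain ⟨c, h1, h2⟩ := hc
  exact ⟨c, fun i j g hg => h1 i j (f g) fun x => (congrArg (c j) (h g x)).trans (hg x), fun i =>
    DL.of_hom f id Function.injective_id (fun g x => (h g x).symm)
      ((h2 i).mono (colStab_map_le h _) le_rfl)⟩

theorem HasThree.of_hom {H : Type u} [Group H] [MulAction H X] {f : G →* H}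
    (h : ∀ (g : G) (x : X), f g • x = g • x) (hc : HasThree H X) : HasThree G X := by
  obtain ⟨c, h1, h2⟩ := hc
  refine ⟨c, fun i j g hg => h1 i j (f g) fun x => (congrArg (c j) (h g x)).trans (hg x), fun i => ?_⟩
  rcases h2 i with ⟨ha, hb⟩ | hb
  · exact Or.inl ⟨ha, DL.of_hom f id Function.injective_id (fun g x => (h g x).symm)
      (hb.mono (colStab_map_le h _) le_rfl)⟩
  · exact Or.inr (DL.of_hom f id Function.injective_id (fun g x => (h g x).symm)
      (hb.mono (colStab_map_le h _) le_rfl))

/-- A preserved small set is fixed pointwise far down the derived series. -/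
theorem fix_of_permB [Finite G] (hsol : Group.IsSolvable G) {N n : ℕ} (hP : PermB.{u} N n)
    {Y : Subgroup G} (S : Finset X) (hN : S.card ≤ N) (hS : ∀ g ∈ Y, ∀ x ∈ S, g • x ∈ S) {g : G}
    (hg : g ∈ der Y n) {x : X} (hx : x ∈ S) : g • x = x := by
  haveI := hsol
  let T : SubMulAction Y X := ⟨(S : Set X), fun s {z} hz => hS s s.2 z hz⟩
  haveI : Finite T := inferInstanceAs (Finite (S : Set X))
  have hT : Nat.card T ≤ N := by
    rw [show Nat.card T = Nat.card (S : Set X) from rfl, Nat.card_coe_set_eq, Set.ncard_coe_finset]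
    exact hN
  have hfull : (⊤ : Subgroup Y).map Y.subtype = Y := by
    rw [← MonoidHom.range_eq_map, Subgroup.range_subtype]
  rw [← hfull, ← map_der] at hg
  obtain ⟨s, hs, rfl⟩ := hg
  exact congrArg Subtype.val (hP Y T hT inferInstance s hs ⟨x, hx⟩)

/-- Invariant colourings are few. -/
theorem card_invariant_le [Finite X] [Finite κ] (g : G) {c : ℕ} (hk : 1 ≤ Nat.card κ)
    (hc : Nat.card {x : X // g • x = x} + Nat.card X ≤ 2 * c) :
    Nat.card {f : X → κ // ∀ x, f (g • x) = f x} ≤ Nat.card κ ^ c := by
  classical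
  let Ω := MulAction.orbitRel.Quotient (Subgroup.zpowers g) X
  let mk : X → Ω := fun x => Quotient.mk'' x
  have hmk : ∀ q : Ω, mk (Quotient.out q) = q := fun q => Quotient.out_eq' q
  have hsmul : ∀ x, mk (g • x) = mk x := fun x =>
    Quotient.sound' ⟨⟨g, Subgroup.mem_zpowers g⟩, rfl⟩
  have hΩ : Nat.card Ω ≤ c := by
    let ψ : Ω ⊕ Ω → X ⊕ {x : X // g • x = x} := fun s => Sum.elim (fun q => Sum.inl q.out)
      (fun q => if h : g • q.out = q.out then Sum.inr ⟨q.out, h⟩ else Sum.inl (g • q.out)) s
    have hinj : Function.Injective ψ := by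
      rintro (q | q) (q' | q') h
      · simp only [ψ, Sum.elim_inl, Sum.inl.injEq] at h
        rw [← hmk q, ← hmk q', h]
      · exfalso
        simp only [ψ, Sum.elim_inl, Sum.elim_inr] at h
        split_ifs at h with h'
        · rw [Sum.inl.injEq] at h
          have e : q = q' := by rw [← hmk q, h, hsmul, hmk]
          subst e
          exact h' h.symm
      · exfalso
        simp only [ψ, Sum.elim_inl, Sum.elim_inr] at h
        split_ifs at h with h'
        · rw [Sum.inl.injEq] at h
          have e : q' = q := by rw [← hmk q', ← h, hsmul, hmk]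
          subst e
          exact h' h
      · simp only [ψ, Sum.elim_inr] at h
        split_ifs at h with h1 h2 h3
        · rw [Sum.inr.injEq, Subtype.mk.injEq] at h
          rw [← hmk q, ← hmk q', h]
        · rw [Sum.inl.injEq] at h
          rw [← hmk q, ← hsmul, h, hsmul, hmk]
    have h := Nat.card_le_card_of_injective ψ hinj
    rw [Nat.card_sum, Nat.card_sum] at h
    omega
  refine le_trans ?_ (Nat.pow_le_pow_right hk hΩ)
  rw [← Nat.card_fun]
  refine Nat.card_le_card_of_injective (fun f q => f.1 q.out) fun f f' h => Subtype.ext (funext fun x => ?_)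
  have hpow : ∀ (f : {f : X → κ // ∀ x, f (g • x) = f x}) (i : ℤ) (y : X), f.1 (g ^ i • y) = f.1 y := by
    intro f i y
    exact zpow_mem (show g ∈ colStab G f.1 from f.2) i y
  obtain ⟨⟨_, i, rfl⟩, hi⟩ : x ∈ orbit (Subgroup.zpowers g) (mk x).out :=
    Quotient.exact' (show mk x = mk (mk x).out by rw [hmk])
  rw [← show g ^ i • (mk x).out = x from hi, hpow, hpow]
  exact congrFun h (mk x)

/-- The counting criterion. -/
theorem five_of_count [Finite G] [Finite X] [Finite κ] {c : ℕ} (hk : 1 ≤ Nat.card κ)
    (hc : ∀ g : G, g ≠ 1 → Nat.card {x : X // g • x = x} + Nat.card X ≤ 2 * c)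
    (hlt : Nat.card G * Nat.card κ ^ c + 5 * Nat.card G ≤ Nat.card κ ^ Nat.card X) :
    ∃ col : Fin 5 → X → κ, Inequiv G col ∧ ∀ i, colStab G (col i) = ⊥ := by
  classical
  haveI := Fintype.ofFinite G
  haveI := Fintype.ofFinite X
  haveI := Fintype.ofFinite κ
  let bad : Finset (X → κ) := (Finset.univ.erase (1 : G)).biUnion
    fun g => Finset.univ.filter fun f : X → κ => ∀ x, f (g • x) = f x
  have hbad : bad.card ≤ (Nat.card G - 1) * Nat.card κ ^ c := by
    refine Finset.card_biUnion_le.trans
      ((Finset.sum_le_card_nsmul _ _ (Nat.card κ ^ c) fun g hg => ?_).trans (le_of_eq ?_))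
    · refine le_trans (le_of_eq ?_) (card_invariant_le g hk (hc g (Finset.mem_erase.1 hg).1))
      rw [Nat.card_eq_fintype_card, Fintype.card_subtype]
    · rw [Finset.card_erase_of_mem (Finset.mem_univ _), Finset.card_univ, smul_eq_mul,
        ← Nat.card_eq_fintype_card]
  suffices h : ∀ n ≤ 5, ∃ col : Fin n → X → κ, Inequiv G col ∧ ∀ i, col i ∉ bad by
    obtain ⟨col, h1, h2⟩ := h 5 le_rfl
    refine ⟨col, h1, fun i => eq_bot_iff.2 fun g hg => Subgroup.mem_bot.2 ?_⟩
    by_contra hne
    exact h2 i (Finset.mem_biUnion.2 ⟨g, Finset.mem_erase.2 ⟨hne, Finset.mem_univ g⟩,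
      Finset.mem_filter.2 ⟨Finset.mem_univ _, hg⟩⟩)
  intro n hn
  induction n with
  | zero => exact ⟨fun i => i.elim0, fun i => i.elim0, fun i => i.elim0⟩
  | succ n ih =>
    obtain ⟨col, h1, h2⟩ := ih (by omega)
    let used : Finset (X → κ) := (Finset.univ : Finset (Fin n × G)).image fun p x => col p.1 (p.2 • x)
    have hu : used.card ≤ n * Nat.card G := by
      refine Finset.card_image_le.trans (le_of_eq ?_)
      rw [Finset.card_univ, Fintype.card_prod, Fintype.card_fin, Nat.card_eq_fintype_card]
    obtain ⟨f, hf⟩ : ∃ f, f ∉ bad ∪ used := by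
      by_contra! h
      have h3 : Finset.univ ⊆ bad ∪ used := fun f _ => h f
      have h4 := (Finset.card_le_card h3).trans (Finset.card_union_le _ _)
      rw [Finset.card_univ, Fintype.card_fun, ← Nat.card_eq_fintype_card,
        ← Nat.card_eq_fintype_card] at h4
      have h5 : (Nat.card G - 1) * Nat.card κ ^ c + Nat.card κ ^ c = Nat.card G * Nat.card κ ^ c := by
        obtain ⟨j, hj⟩ := Nat.exists_eq_succ_of_ne_zero (Nat.card_pos (α := G)).ne'
        rw [hj, Nat.succ_sub_one, Nat.succ_mul]
      have h6 : 0 < Nat.card κ ^ c := Nat.pow_pos hk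
      have h7 : n * Nat.card G ≤ 5 * Nat.card G := Nat.mul_le_mul_right _ (by omega)
      omega
    rw [Finset.mem_union, not_or] at hf
    refine ⟨Fin.snoc col f, fun i j g hg => ?_, Fin.lastCases (by simpa using hf.1) (by simpa using h2)⟩
    induction i using Fin.lastCases with
    | last =>
      induction j using Fin.lastCases with
      | last => rfl
      | cast j =>
        exfalso
        simp only [Fin.snoc_last, Fin.snoc_castSucc] at hg
        exact hf.2 (Finset.mem_image.2 ⟨(j, g), Finset.mem_univ _, funext hg⟩)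
    | cast i =>
      induction j using Fin.lastCases with
      | last =>
        exfalso
        simp only [Fin.snoc_last, Fin.snoc_castSucc] at hg
        refine hf.2 (Finset.mem_image.2 ⟨(i, g⁻¹), Finset.mem_univ _, funext fun x => ?_⟩)
        show col i (g⁻¹ • x) = f x
        rw [← hg, smul_inv_smul]
      | cast j =>
        simp only [Fin.snoc_castSucc] at hg
        exact congrArg Fin.castSucc (h1 i j g hg)

end Col

namespace Affine

variable {G : Type u} [Group G] {X : Type u} [MulAction G X] (T : Affine G X)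

include T in
theorem exists_coords [Nontrivial X] :
    ∃ (p a : ℕ) (_ : Fact p.Prime), 0 < a ∧ Nat.card X = p ^ a ∧
      Nonempty (T.F ≃+ (Fin a → ZMod p)) := by
  letI := T.action
  haveI : Nontrivial T.F := T.e.nontrivial
  obtain ⟨p, hp, hpF⟩ := exists_nsmul_eq_zero (A := G) (V := T.F) fun U hU => T.irr U hU
  haveI := Fact.mk hp
  letI : Module (ZMod p) T.F := AddCommGroup.zmodModule (n := p) hpF
  haveI : Module.Finite (ZMod p) T.F := Module.Finite.of_finite
  have hcard : Nat.card T.F = p ^ Module.finrank (ZMod p) T.F := by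
    refine (Module.natCard_eq_pow_finrank (K := ZMod p)).trans ?_
    rw [Nat.card_zmod]
  have hpos : 0 < Module.finrank (ZMod p) T.F := by
    refine Nat.pos_of_ne_zero fun h => ?_
    have h1 : 1 < Nat.card T.F := Finite.one_lt_card
    rw [hcard, h, pow_zero] at h1
    omega
  let φ := (Module.finBasis (ZMod p) T.F).equivFun.toAddEquiv
  exact ⟨p, Module.finrank (ZMod p) T.F, ⟨hp⟩, hpos, T.card_F.symm.trans hcard, ⟨φ⟩⟩

include T in
theorem card_le [Finite G] [Finite X] [FaithfulSMul G X] (hsol : Group.IsSolvable G) :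
    Nat.card G ≤ Nat.card X ^ 4 := by
  letI := T.action
  obtain ⟨a, b, c, habc⟩ := BaseThree.hasBase3 hsol T.isCR_action
  let F : G → X × X × X × X := fun g => (g • T.e 0, g • T.e a, g • T.e b, g • T.e c)
  have hF : Function.Injective F := by
    intro g g' h
    simp only [F, Prod.mk.injEq] at h
    obtain ⟨h0, h1, h2, h3⟩ := h
    have hfix : ∀ {y : X}, g • y = g' • y → (g'⁻¹ * g) • y = y := fun h => by
      rw [mul_smul, h, inv_smul_smul]
    set k := g'⁻¹ * g with hk
    have ht : T.tr k = 0 := by
      have h := (T.smul_eq_self_iff k 0).1 (hfix h0)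
      rwa [map_zero, zero_add] at h
    have hl : ∀ y, k • T.e y = T.e y → T.lin k y = y := fun y hy => by
      have h := (T.smul_eq_self_iff k y).1 hy
      rwa [ht, add_zero] at h
    have h4 := habc k (hl a (hfix h1)) (hl b (hfix h2)) (hl c (hfix h3))
    refine (inv_mul_eq_one.1 ((hk ▸ eq_of_smul_eq_smul fun x : X => ?_) : g'⁻¹ * g = 1)).symm
    obtain ⟨y, rfl⟩ := T.e.surjective x
    rw [one_smul]
    refine (T.smul_eq_self_iff k y).2 ?_
    rw [ht, add_zero]
    exact h4 y
  refine (Nat.card_le_card_of_injective F hF).trans (le_of_eq ?_)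
  rw [Nat.card_prod, Nat.card_prod, Nat.card_prod]
  ring

include T in
theorem card_fixed_le [Finite X] [FaithfulSMul G X] {p a : ℕ} (hp : p.Prime)
    (hX : Nat.card X = p ^ a) {g : G} (hg : g ≠ 1) :
    p * Nat.card {x : X // g • x = x} ≤ Nat.card X := by
  rcases isEmpty_or_nonempty {x : X // g • x = x} with hE | ⟨⟨x, hx⟩⟩
  · simp
  obtain ⟨y, rfl⟩ := T.e.surjective x
  let U : AddSubgroup T.F :=
    { carrier := {b | T.lin g b = b}
      zero_mem' := map_zero _
      add_mem' := fun {b c} hb hc => by
        show T.lin g (b + c) = b + c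
        rw [map_add, hb, hc]
      neg_mem' := fun {b} hb => by
        show T.lin g (-b) = -b
        rw [map_neg, hb] }
  have hle : Nat.card {x : X // g • x = x} ≤ Nat.card U := by
    refine Nat.card_le_card_of_injective (fun z => (⟨T.e.symm z.1 - y, ?_⟩ : U)) fun z z' h => ?_
    · show T.lin g (T.e.symm z.1 - y) = T.e.symm z.1 - y
      have h1 := (T.smul_eq_self_iff g (T.e.symm z.1)).1 (by rw [T.e.apply_symm_apply]; exact z.2)
      have h2 := (T.smul_eq_self_iff g y).1 hx
      rw [map_sub, eq_sub_of_add_eq h1, eq_sub_of_add_eq h2]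
      abel
    · exact Subtype.ext (T.e.symm.injective (sub_left_inj.1 (congrArg Subtype.val h)))
  have hne : U ≠ ⊤ := fun h => hg (eq_of_smul_eq_smul fun z : X => by
    obtain ⟨b, rfl⟩ := T.e.surjective z
    have hb : ∀ c, T.lin g c = c := fun c => (h ▸ AddSubgroup.mem_top c : c ∈ U)
    have ht : T.tr g = 0 := by
      have h1 := (T.smul_eq_self_iff g y).1 hx
      rwa [hb, add_eq_left] at h1
    rw [one_smul]
    exact (T.smul_eq_self_iff g b).2 (by rw [hb, ht, add_zero]))
  have hi : p ≤ U.index := by
    obtain ⟨j, -, hj⟩ := (Nat.dvd_prime_pow hp).1 (show U.index ∣ p ^ a by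
      rw [← hX, ← T.card_F]; exact U.index_dvd_card)
    rcases j with _ | j
    · exact absurd (AddSubgroup.index_eq_one.1 (by rw [hj, pow_zero])) hne
    · rw [hj]; exact Nat.le_self_pow j.succ_ne_zero p
  calc p * Nat.card {x : X // g • x = x} ≤ U.index * Nat.card U := Nat.mul_le_mul hi hle
    _ = Nat.card X := by rw [mul_comm, AddSubgroup.card_mul_index, T.card_F]

end Affine

end Cfsg.Agent.StabilizerLength
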