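import Cfsg.Agent.Lib.StabilizerLength.Basic
import Cfsg.Agent.Lib.OddBaseTwo.Imprimitive

/-!
# Systems of imprimitivity

* `exists_rep`, `block_irr`, `card_eq_pow`: the summands are conjugate, irreducible and of one order.
* `exists_coatom`: some system has a maximal block stabiliser.
* `dl_sum`: the stabiliser of a vector assembled from a colouring.
-/

set_option autoImplicit false
set_option linter.style.haveILetI false
set_option linter.unusedSectionVars false

namespace Cfsg.Agent.StabilizerLength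

open OddBaseTwo MulAction

universe u v

variable {A : Type u} [Group A] {V : Type u} [AddCommGroup V] [DistribMulAction A V]
  {ι : Type u} [Fintype ι] [MulAction A ι] {W : ι → AddSubgroup V}

theorem exists_rep (hd : IsDecomp (A := A) W) (hirr : IsIrr A V) (i₀ i : ι) :
    ∃ a : A, a • i₀ = i := by
  classical
  by_contra hi
  let S : ι → AddSubgroup V := fun j => if j ∈ orbit A i₀ then W j else ⊥
  have hS : ∀ (a : A) (j : ι), ∀ x ∈ S j, a • x ∈ S (a • j) := by
    intro a j x hx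
    by_cases hj : j ∈ orbit A i₀
    · simp only [S, if_pos hj] at hx
      simp only [S, if_pos (show a • j ∈ orbit A i₀ by rw [← orbit_eq_iff.2 hj]; exact mem_orbit j a)]
      exact hd.smul_mem a j x hx
    · simp only [S, if_neg hj, AddSubgroup.mem_bot] at hx
      rw [hx, smul_zero]; exact zero_mem _
  have h := hd.family_top hirr S (fun j => by simp only [S]; split_ifs; exacts [le_rfl, bot_le]) hS
    (i₀ := i₀) (by simp only [S, if_pos (mem_orbit_self i₀)]; exact hd.ne_bot i₀) i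
  simp only [S, if_neg (show i ∉ orbit A i₀ from fun ⟨a, ha⟩ => hi ⟨a, ha⟩), le_bot_iff] at h
  exact hd.ne_bot i h

theorem isPretransitive (hd : IsDecomp (A := A) W) (hirr : IsIrr A V) : IsPretransitive A ι :=
  ⟨fun i j => exists_rep hd hirr i j⟩

theorem inv_block (hd : IsDecomp (A := A) W) (i : ι) : IsInv (stabilizer A i) V (W i) :=
  fun b x hx => by
    have := hd.smul_mem b i x hx
    rwa [mem_stabilizer_iff.1 b.2] at this

theorem block_irr (hd : IsDecomp (A := A) W) (hirr : IsIrr A V) (i₀ : ι) :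
    letI := subAction (W i₀) (inv_block hd i₀)
    IsIrr (stabilizer A i₀) (W i₀) := by
  classical
  letI := subAction (W i₀) (inv_block hd i₀)
  choose rep hrep using exists_rep hd hirr i₀
  intro U hU
  by_cases hU0 : U = ⊥
  · exact Or.inl hU0
  right
  let S : ι → AddSubgroup V := fun j =>
    (U.map (W i₀).subtype).comap (DistribSMul.toAddMonoidHom V (rep j)⁻¹)
  have hmemS : ∀ j x, x ∈ S j ↔ ∃ y ∈ U, (y : V) = (rep j)⁻¹ • x := fun j x => Iff.rfl
  have hb : ∀ (a : A) (j : ι), (rep (a • j))⁻¹ * a * rep j ∈ stabilizer A i₀ := fun a j => by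
    rw [mem_stabilizer_iff, mul_smul, mul_smul, hrep, inv_smul_eq_iff, hrep]
  have hSW : ∀ j, S j ≤ W j := fun j x hx => by
    obtain ⟨y, -, hy⟩ := (hmemS j x).1 hx
    have := hd.smul_mem (rep j) i₀ _ y.2
    rwa [hrep, hy, smul_inv_smul] at this
  have hS : ∀ (a : A) (j : ι), ∀ x ∈ S j, a • x ∈ S (a • j) := fun a j x hx => by
    obtain ⟨y, hy, hyx⟩ := (hmemS j x).1 hx
    refine (hmemS _ _).2 ⟨(⟨_, hb a j⟩ : stabilizer A i₀) • y, hU _ y hy, ?_⟩
    show ((rep (a • j))⁻¹ * a * rep j) • (y : V) = _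
    rw [hyx, mul_smul, mul_smul, smul_inv_smul]
  obtain ⟨⟨y, hy⟩, hy0⟩ := AddSubgroup.ne_bot_iff_exists_ne_zero.1 hU0
  have hne : S i₀ ≠ ⊥ := fun h => hy0 (Subtype.ext (Subtype.ext (by
    have hm : rep i₀ • (y : V) ∈ S i₀ := (hmemS _ _).2 ⟨y, hy, (inv_smul_smul _ _).symm⟩
    rw [h, AddSubgroup.mem_bot, smul_eq_zero_iff_eq] at hm
    exact hm)))
  refine eq_top_iff.2 fun z _ => ?_
  have hm : rep i₀ • (z : V) ∈ S i₀ := hd.family_top hirr S hSW hS hne i₀ (by
    have := hd.smul_mem (rep i₀) i₀ _ z.2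
    rwa [hrep] at this)
  obtain ⟨w, hw, hwz⟩ := (hmemS _ _).1 hm
  rw [inv_smul_smul] at hwz
  exact Subtype.ext hwz ▸ hw

theorem nontrivial_block (hd : IsDecomp (A := A) W) (i : ι) : Nontrivial (W i) :=
  (AddSubgroup.nontrivial_iff_ne_bot _).2 (hd.ne_bot i)

theorem card_block_eq (hd : IsDecomp (A := A) W) {i₀ i : ι} {a : A} (ha : a • i₀ = i) :
    Nat.card (W i) = Nat.card (W i₀) := by
  refine Nat.card_congr
    { toFun := fun x => ⟨a⁻¹ • (x : V), ?_⟩
      invFun := fun x => ⟨a • (x : V), ?_⟩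
      left_inv := fun x => Subtype.ext (smul_inv_smul a (x : V))
      right_inv := fun x => Subtype.ext (inv_smul_smul a (x : V)) }
  · have := hd.smul_mem a⁻¹ i x x.2
    rwa [inv_smul_eq_iff.2 ha.symm] at this
  · have := hd.smul_mem a i₀ x x.2
    rwa [ha] at this

theorem card_eq_pow [Finite V] (hd : IsDecomp (A := A) W) (hirr : IsIrr A V) (i₀ : ι) :
    Nat.card V = Nat.card (W i₀) ^ Fintype.card ι := by
  rw [← Nat.card_congr (Equiv.ofBijective _ hd.bij), Nat.card_pi,
    Finset.prod_congr rfl (fun i _ => card_block_eq hd (exists_rep hd hirr i₀ i).choose_spec),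
    Finset.prod_const, Finset.card_univ]

theorem card_block_lt [Finite V] (hd : IsDecomp (A := A) W) (hirr : IsIrr A V)
    (h2 : 1 < Fintype.card ι) (i₀ : ι) : Nat.card (W i₀) < Nat.card V := by
  haveI := nontrivial_block hd i₀
  rw [card_eq_pow hd hirr i₀]
  calc Nat.card (W i₀) = Nat.card (W i₀) ^ 1 := (pow_one _).symm
    _ < _ := Nat.pow_lt_pow_right Finite.one_lt_card h2

theorem card_index_lt [Finite V] (hd : IsDecomp (A := A) W) (hirr : IsIrr A V) (i₀ : ι) :
    Nat.card ι < Nat.card V := by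
  haveI := nontrivial_block hd i₀
  rw [card_eq_pow hd hirr i₀, Nat.card_eq_fintype_card]
  exact lt_of_lt_of_le Nat.lt_two_pow_self
    (Nat.pow_le_pow_left (Finite.one_lt_card (α := W i₀)) _)

/-- Some system of imprimitivity has a maximal block stabiliser. -/
theorem exists_coatom [Finite A] (hd : IsDecomp (A := A) W) (hirr : IsIrr A V)
    (h2 : 1 < Fintype.card ι) :
    ∃ (κ : Type u) (_ : Fintype κ) (_ : MulAction A κ) (U : κ → AddSubgroup V) (k₀ : κ),
      IsDecomp (A := A) U ∧ 1 < Fintype.card κ ∧ IsCoatom (stabilizer A k₀) := by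
  classical
  obtain ⟨i₀⟩ : Nonempty ι := Fintype.card_pos_iff.1 (by omega)
  have hne : stabilizer A i₀ ≠ ⊤ := fun h => by
    obtain ⟨j, hj⟩ := Fintype.exists_ne_of_one_lt_card h2 i₀
    obtain ⟨a, ha⟩ := exists_rep hd hirr i₀ j
    exact hj (ha ▸ mem_stabilizer_iff.1 (h ▸ Subgroup.mem_top a))
  obtain ⟨K, hK, hle⟩ := (eq_top_or_exists_le_coatom (stabilizer A i₀)).resolve_left hne
  letI : Fintype (A ⧸ K) := Fintype.ofFinite _
  choose rep hrep using exists_rep hd hirr i₀
  let bl : ι → A ⧸ K := fun i => QuotientGroup.mk (rep i)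
  have hbl : ∀ (a : A) (i : ι), bl (a • i) = a • bl i := fun a i => QuotientGroup.eq.2 (hle
    (mem_stabilizer_iff.2 (by
      show ((rep (a • i))⁻¹ * (a * rep i)) • i₀ = i₀
      rw [mul_smul, mul_smul, hrep, inv_smul_eq_iff, hrep])))
  let f : (i : ι) → V → (ι → V) := fun i x => Pi.single i x
  let U : A ⧸ K → AddSubgroup V := fun q =>
    { carrier := {v | ∃ c : ι → V, (∀ i, c i ∈ W i) ∧ (∀ i, bl i ≠ q → c i = 0) ∧ ∑ i, c i = v}
      zero_mem' := ⟨0, fun i => zero_mem _, fun _ _ => rfl, by simp⟩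
      add_mem' := by
        rintro _ _ ⟨c, hc, hc0, rfl⟩ ⟨c', hc', hc0', rfl⟩
        exact ⟨c + c', fun i => add_mem (hc i) (hc' i),
          fun i hi => by simp [hc0 i hi, hc0' i hi], by simp [Finset.sum_add_distrib]⟩
      neg_mem' := by
        rintro _ ⟨c, hc, hc0, rfl⟩
        exact ⟨-c, fun i => neg_mem (hc i), fun i hi => by simp [hc0 i hi], by simp⟩ }
  refine ⟨A ⧸ K, inferInstance, inferInstance, U, ((1 : A) : A ⧸ K), ⟨⟨?_, ?_⟩, ?_, ?_⟩, ?_, ?_⟩
  · intro x y hxy
    choose c hc hc0 hcs using fun q => (x q).2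
    choose c' hc' hc0' hcs' using fun q => (y q).2
    have key : ∀ (d : A ⧸ K → ι → V), (∀ q i, bl i ≠ q → d q i = 0) →
        ∑ q, ∑ i, d q i = ∑ i, d (bl i) i := fun d hd0 => by
      rw [Finset.sum_comm]
      exact Finset.sum_congr rfl fun i _ =>
        Finset.sum_eq_single (bl i) (fun q _ hq => hd0 q i (Ne.symm hq)) (by simp)
    simp only at hxy
    simp only [← hcs, ← hcs'] at hxy
    rw [key c hc0, key c' hc0'] at hxy
    have h := hd.eq_of_sum_eq (fun i => hc (bl i) i) (fun i => hc' (bl i) i) hxy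
    funext q
    refine Subtype.ext ?_
    rw [← hcs q, ← hcs' q]
    refine Finset.sum_congr rfl fun i _ => ?_
    by_cases hi : bl i = q
    · subst hi; exact h i
    · rw [hc0 q i hi, hc0' q i hi]
  · intro v
    obtain ⟨x, rfl⟩ := hd.bij.2 v
    refine ⟨fun q => ⟨∑ i, if bl i = q then (x i : V) else 0,
      ⟨fun i => if bl i = q then (x i : V) else 0, fun i => ?_, fun i hi => if_neg hi, rfl⟩⟩, ?_⟩
    · show (if bl i = q then (x i : V) else 0) ∈ W i
      split_ifs
      · exact (x i).2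
      · exact zero_mem _
    · show ∑ q, ∑ i, (if bl i = q then (x i : V) else 0) = _
      rw [Finset.sum_comm]
      exact Finset.sum_congr rfl fun i _ => by rw [Finset.sum_ite_eq]; simp
  · rintro a q _ ⟨c, hc, hc0, rfl⟩
    refine ⟨fun i => a • c (a⁻¹ • i), fun i => ?_, fun i hi => ?_, ?_⟩
    · have := hd.smul_mem a _ _ (hc (a⁻¹ • i))
      rwa [smul_inv_smul] at this
    · show a • c (a⁻¹ • i) = 0
      rw [hc0 _ fun h => hi ?_, smul_zero]
      rw [← h, hbl, smul_inv_smul]
    · rw [Finset.smul_sum]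
      exact Equiv.sum_comp (MulAction.toPerm a⁻¹) (fun j => a • c j)
  · intro q hq
    obtain ⟨g, rfl⟩ := QuotientGroup.mk_surjective q
    obtain ⟨⟨x, hx⟩, hx0⟩ := AddSubgroup.ne_bot_iff_exists_ne_zero.1 (hd.ne_bot (g • i₀))
    have hm : x ∈ U (g : A ⧸ K) := by
      refine ⟨Pi.single (g • i₀) x, fun i => ?_, fun i hi => ?_, by simp⟩
      · by_cases h : i = g • i₀
        · subst h; simpa using hx
        · simp [Pi.single_eq_of_ne h]
      · refine Pi.single_eq_of_ne (fun h => hi ?_) _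
        rw [h, hbl]
        show g • ((rep i₀ : A) : A ⧸ K) = _
        exact QuotientGroup.eq.2 (by
          simpa [mul_assoc] using inv_mem (hle (mem_stabilizer_iff.2 (hrep i₀))))
    rw [hq, AddSubgroup.mem_bot] at hm
    exact hx0 (Subtype.ext hm)
  · rw [← Nat.card_eq_fintype_card]
    exact lt_of_le_of_ne Nat.card_pos fun h => hK.1 (Subgroup.index_eq_one.1 h.symm)
  · convert hK
    ext g
    rw [mem_stabilizer_iff]
    constructor
    · intro h
      have h' : ((g * 1 : A) : A ⧸ K) = ((1 : A) : A ⧸ K) := h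
      rw [mul_one] at h'
      simpa using QuotientGroup.eq.1 h'
    · intro h
      show ((g * 1 : A) : A ⧸ K) = _
      exact QuotientGroup.eq.2 (by simpa using inv_mem h)

/-- The stabiliser of a vector built from a colouring of the summands. -/
theorem dl_sum [Finite A] (hd : IsDecomp (A := A) W) {i₀ : ι} (rep : ι → A)
    (hrep : ∀ i, rep i • i₀ = i) {κ : Type v} (t : κ → W i₀) (f : ι → κ) {X : Subgroup A} {a b : ℕ}
    (hfix : ∀ g ∈ X, g • ∑ i, rep i • (t (f i) : V) = ∑ i, rep i • (t (f i) : V))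
    (hι : DL ι X a)
    (hblock : ∀ i, letI := subAction (W i₀) (inv_block hd i₀);
      DL (W i₀) (stabilizer (stabilizer A i₀) (t (f i))) b) :
    DL V X (a + b) := by
  classical
  letI := subAction (W i₀) (inv_block hd i₀)
  have hmem : ∀ i (x : W i₀), rep i • (x : V) ∈ W i := fun i x => by
    have := hd.smul_mem (rep i) i₀ _ x.2
    rwa [hrep] at this
  refine DL.trans le_rfl fun g hg v => ?_
  obtain ⟨x, rfl⟩ := hd.bij.2 v
  rw [Finset.smul_sum]
  refine Finset.sum_congr rfl fun i _ => ?_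
  have hSi : ∀ s ∈ der X a, (rep i)⁻¹ * s * rep i ∈ stabilizer A i₀ := fun s hs => by
    rw [mem_stabilizer_iff, mul_smul, mul_smul, hrep, hι s hs, inv_smul_eq_iff, hrep]
  let φ : ↥(der X a) →* ↥(stabilizer A i₀) :=
    { toFun := fun s => ⟨(rep i)⁻¹ * s * rep i, hSi s s.2⟩
      map_one' := Subtype.ext (by simp)
      map_mul' := fun s s' => Subtype.ext (by simp [mul_assoc]) }
  have hle : (⊤ : Subgroup ↥(der X a)).map φ ≤ stabilizer (stabilizer A i₀) (t (f i)) := by
    rintro _ ⟨s, -, rfl⟩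
    refine mem_stabilizer_iff.2 (Subtype.ext ?_)
    show ((rep i)⁻¹ * (s : A) * rep i) • (t (f i) : V) = (t (f i) : V)
    have h := hd.smul_eq_of_fixes (c := fun j => rep j • (t (f j) : V)) (fun j => hmem j _)
      (hfix s (der_le _ _ s.2)) i
    simp only [hι (s : A) s.2] at h
    rw [mul_smul, mul_smul, h, inv_smul_smul]
  obtain ⟨s, hs, rfl⟩ : ∃ s : ↥(der X a), s ∈ der ⊤ b ∧ (s : A) = g := by
    have h1 := map_der (der X a).subtype ⊤ b
    rw [← MonoidHom.range_eq_map, Subgroup.range_subtype] at h1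
    rw [← h1] at hg
    exact hg
  have h := (hblock i).mono hle le_rfl (φ s) (by rw [← map_der]; exact ⟨s, hs, rfl⟩)
    ⟨(rep i)⁻¹ • (x i : V), by
      have := hd.smul_mem (rep i)⁻¹ i _ (x i).2
      rwa [inv_smul_eq_iff.2 (hrep i).symm] at this⟩
  have h' : ((rep i)⁻¹ * (s : A) * rep i) • (rep i)⁻¹ • (x i : V) = (rep i)⁻¹ • (x i : V) :=
    congrArg Subtype.val h
  rwa [mul_smul, mul_smul, smul_inv_smul, smul_left_cancel_iff] at h'

end Cfsg.Agent.StabilizerLength
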