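import Cfsg.Agent.Lib.StabilizerLength.Designs

/-!
# The designs for degrees 9, 16, 25, 27, 32, 49

In characteristic two vectors are encoded by the numbers with the same binary digits.
-/

set_option autoImplicit false
set_option linter.style.haveILetI false

namespace Cfsg.Agent.StabilizerLength

/-- The coordinate axes of a plane. -/
theorem design_plane (p : ℕ) [Fact p.Prime] : Nonempty (Design p 2 2) := by
  let v : Fin 2 → Fin 2 → ZMod p := fun i k => if i = k then 1 else 0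
  have hv : ∀ j j', v j = v j' → j = j' := fun j j' h => by
    by_contra hne
    have := congrFun h j
    simp only [v, if_true, if_neg (Ne.symm hne)] at this
    exact one_ne_zero this
  have hc : ∀ σ j, comb v σ (v j) = v (σ j) := fun σ j => by
    funext k
    fin_cases j <;> simp [comb, v, Fin.sum_univ_two]
  refine ⟨⟨v, id, fun i k => rfl, hv, fun j h => ?_, fun σ σ' hσ hσ' i => ?_⟩⟩
  · have := congrFun h j
    simp only [v, if_true] at this
    exact one_ne_zero this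
  · have key : ∀ s s' : Fin 2 → Fin 2, (∀ j j', s j = s j' → j = j') → (∀ j j', s' j = s' j' → j = j') →
        ∀ i, s (s' i) = s' (s i) := by decide
    have hinj : ∀ s, Valid v s → ∀ j j', s j = s j' → j = j' := fun s hs j j' h =>
      hs.2 j j' (by rw [hc, hc, h])
    rw [hc, hc, key σ σ' (hinj σ hσ) (hinj σ' hσ') i]

/-! ## Degree 27 -/

/-- Four points of the space of dimension three. -/
def v27 : Fin 4 → Fin 3 → ZMod 3 := ![![1, 0, 0], ![0, 1, 0], ![0, 0, 1], ![1, 1, 0]]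

theorem design_27 : Nonempty (Design 3 3 4) := by
  have hc : ∀ σ : Fin 3 → Fin 4, (∀ j, comb v27 σ (v27 (Fin.castSucc j)) = v27 (σ j)) ∧
      comb v27 σ (v27 3) = v27 (σ 0) + v27 (σ 1) := fun σ => by
    refine ⟨fun j => ?_, ?_⟩
    · funext k; fin_cases j <;> simp [comb, Fin.sum_univ_three, v27]
    · funext k; simp [comb, Fin.sum_univ_three, v27]
  have hmem : ∀ σ, Valid v27 σ → σ ∈ ([![0, 1, 2], ![1, 0, 2]] : List (Fin 3 → Fin 4)) := by
    intro σ hσ
    have h : ∀ s₀ s₁ s₂ : Fin 4, s₀ ≠ s₁ → s₀ ≠ s₂ → s₁ ≠ s₂ →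
        (∃ t, v27 t = v27 s₀ + v27 s₁ ∧ t ≠ s₀ ∧ t ≠ s₁ ∧ t ≠ s₂) →
        ![s₀, s₁, s₂] ∈ ([![0, 1, 2], ![1, 0, 2]] : List (Fin 3 → Fin 4)) := by
      decide +kernel
    have hne : ∀ i j : Fin 3, i ≠ j → σ i ≠ σ j := fun i j hij he => hij (Fin.castSucc_injective _
      (hσ.2 _ _ (by rw [(hc σ).1, (hc σ).1, he])))
    obtain ⟨t, ht⟩ := hσ.1 3
    rw [(hc σ).2] at ht
    have htne : ∀ i, t ≠ σ i := fun i he => by
      have h3 := hσ.2 3 (Fin.castSucc i) (by rw [(hc σ).2, (hc σ).1, ← ht, he])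
      exact absurd h3.symm (Fin.castSucc_lt_last i).ne
    have e : σ = ![σ 0, σ 1, σ 2] := by funext i; fin_cases i <;> rfl
    rw [e]
    exact h _ _ _ (hne 0 1 (by decide)) (hne 0 2 (by decide)) (hne 1 2 (by decide))
      ⟨t, ht, htne 0, htne 1, htne 2⟩
  refine ⟨⟨v27, Fin.castSucc, by decide, by decide, by decide, fun σ σ' hσ hσ' i => ?_⟩⟩
  have h1 := hmem σ hσ
  have h2 := hmem σ' hσ'
  simp only [List.mem_cons, List.not_mem_nil, or_false] at h1 h2
  rcases h1 with rfl | rfl <;> rcases h2 with rfl | rfl <;> revert i <;> unfold comb v27 <;> decide +kernel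

/-! ## Degree 16 -/

/-- Seven points of the binary space of dimension four. -/
def v16 : Fin 7 → Fin 4 → ZMod 2 :=
  ![![1, 0, 0, 0], ![0, 1, 0, 0], ![0, 0, 1, 0], ![0, 0, 0, 1], ![1, 1, 0, 0], ![1, 0, 1, 0],
    ![0, 1, 1, 1]]

/-- Their codes. -/
def code16 : Fin 7 → ℕ := ![1, 2, 4, 8, 3, 5, 14]

/-- The code of a vector. -/
def enc16 (w : Fin 4 → ZMod 2) : ℕ := (w 0).val + 2 * (w 1).val + 4 * (w 2).val + 8 * (w 3).val

/-- The codes of the images. -/
def img16 (σ : Fin 4 → Fin 7) : Fin 7 → ℕ :=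
  ![code16 (σ 0), code16 (σ 1), code16 (σ 2), code16 (σ 3), code16 (σ 0) ^^^ code16 (σ 1),
    code16 (σ 0) ^^^ code16 (σ 2), (code16 (σ 1) ^^^ code16 (σ 2)) ^^^ code16 (σ 3)]

/-- The images of the coordinate vectors under the stabiliser. -/
def auts16 : List (Fin 4 → Fin 7) :=
  [![0, 1, 2, 3], ![0, 1, 2, 6], ![0, 2, 1, 3], ![0, 2, 1, 6], ![0, 4, 5, 3], ![0, 4, 5, 6],
    ![0, 5, 4, 3], ![0, 5, 4, 6]]

theorem enc16_v : ∀ j, enc16 (v16 j) = code16 j := by decide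

theorem enc16_inj (u w : Fin 4 → ZMod 2) (h : enc16 u = enc16 w) : u = w := by
  funext i
  have := ZMod.val_lt (u 0); have := ZMod.val_lt (u 1); have := ZMod.val_lt (u 2)
  have := ZMod.val_lt (u 3); have := ZMod.val_lt (w 0); have := ZMod.val_lt (w 1)
  have := ZMod.val_lt (w 2); have := ZMod.val_lt (w 3)
  apply ZMod.val_injective
  unfold enc16 at h
  fin_cases i <;> simp only [Fin.zero_eta, Fin.mk_one, Fin.reduceFinMk] <;> omega

theorem enc16_add (u w : Fin 4 → ZMod 2) : enc16 (u + w) = enc16 u ^^^ enc16 w := by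
  have h : ∀ a b c d a' b' c' d' : ZMod 2,
      (a + a').val + 2 * (b + b').val + 4 * (c + c').val + 8 * (d + d').val =
        (a.val + 2 * b.val + 4 * c.val + 8 * d.val) ^^^
          (a'.val + 2 * b'.val + 4 * c'.val + 8 * d'.val) := by decide +kernel
  exact h _ _ _ _ _ _ _ _

theorem enc16_comb (σ : Fin 4 → Fin 7) : ∀ j, enc16 (comb v16 σ (v16 j)) = img16 σ j := by
  intro j
  have e : comb v16 σ (v16 j) = ![v16 (σ 0), v16 (σ 1), v16 (σ 2), v16 (σ 3), v16 (σ 0) + v16 (σ 1),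
      v16 (σ 0) + v16 (σ 2), v16 (σ 1) + v16 (σ 2) + v16 (σ 3)] j := by
    funext k; fin_cases j <;> simp [comb, Fin.sum_univ_four, v16]
  rw [e]
  fin_cases j <;> simp [img16, enc16_add, enc16_v]

theorem mem_auts16 (σ : Fin 4 → Fin 7) (hσ : Valid v16 σ) : σ ∈ auts16 := by
  have h : ∀ s₀ s₁ : Fin 7, s₀ ≠ s₁ → (∃ t, code16 t = code16 s₀ ^^^ code16 s₁) →
      ∀ s₂ : Fin 7, s₀ ≠ s₂ → s₁ ≠ s₂ → (∃ t, code16 t = code16 s₀ ^^^ code16 s₂) →
      ∀ s₃ : Fin 7, (∃ t, code16 t = (code16 s₁ ^^^ code16 s₂) ^^^ code16 s₃) →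
      (∀ j j', img16 ![s₀, s₁, s₂, s₃] j = img16 ![s₀, s₁, s₂, s₃] j' → j = j') →
      ![s₀, s₁, s₂, s₃] ∈ auts16 := by
    decide +kernel
  have himg : ∀ j, ∃ t, code16 t = img16 σ j := fun j => by
    obtain ⟨t, ht⟩ := hσ.1 j
    exact ⟨t, by rw [← enc16_v, ht, enc16_comb]⟩
  have hinj : ∀ j j', img16 σ j = img16 σ j' → j = j' := fun j j' hjj =>
    hσ.2 j j' (enc16_inj _ _ (by rw [enc16_comb, enc16_comb, hjj]))
  have hne : ∀ i i' : Fin 4, i ≠ i' → σ i ≠ σ i' := fun i i' hii he => hii (by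
    have hfirst : ∀ i : Fin 4, img16 σ (Fin.castLE (by norm_num) i) = code16 (σ i) := by
      intro i; fin_cases i <;> rfl
    have h' := hinj _ _ ((hfirst i).trans ((congrArg code16 he).trans (hfirst i').symm))
    exact Fin.castLE_injective _ h')
  have e : σ = ![σ 0, σ 1, σ 2, σ 3] := by funext i; fin_cases i <;> rfl
  rw [e]
  exact h _ _ (hne 0 1 (by decide)) (himg 4) _ (hne 0 2 (by decide)) (hne 1 2 (by decide)) (himg 5) _
    (himg 6) (e ▸ hinj)

theorem design_16 : Nonempty (Design 2 4 7) := by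
  have hcheck : ∀ σ ∈ auts16, ∀ σ' ∈ auts16, ∀ i, img16 σ (σ' i) = img16 σ' (σ i) := by
    decide +kernel
  exact ⟨⟨v16, Fin.castLE (by norm_num), by decide, by decide, by decide, fun σ σ' h h' i =>
    enc16_inj _ _ (by
      rw [enc16_comb, enc16_comb, hcheck σ (mem_auts16 σ h) σ' (mem_auts16 σ' h') i])⟩⟩

/-! ## Degree 32 -/

/-- Eight points of the binary space of dimension five. -/
def v32 : Fin 8 → Fin 5 → ZMod 2 :=
  ![![1, 0, 0, 0, 0], ![0, 1, 0, 0, 0], ![0, 0, 1, 0, 0], ![0, 0, 0, 1, 0], ![0, 0, 0, 0, 1],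
    ![1, 1, 0, 0, 0], ![1, 0, 1, 0, 0], ![0, 1, 1, 1, 0]]

/-- Their codes. -/
def code32 : Fin 8 → ℕ := ![1, 2, 4, 8, 16, 3, 5, 14]

/-- The code of a vector. -/
def enc32 (w : Fin 5 → ZMod 2) : ℕ := enc16 (fun i => w (Fin.castSucc i)) + 16 * (w 4).val

/-- The codes of the images. -/
def img32 (σ : Fin 5 → Fin 8) : Fin 8 → ℕ :=
  ![code32 (σ 0), code32 (σ 1), code32 (σ 2), code32 (σ 3), code32 (σ 4),
    code32 (σ 0) ^^^ code32 (σ 1), code32 (σ 0) ^^^ code32 (σ 2),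
    (code32 (σ 1) ^^^ code32 (σ 2)) ^^^ code32 (σ 3)]

/-- The images of the coordinate vectors under the stabiliser. -/
def auts32 : List (Fin 5 → Fin 8) :=
  [![0, 1, 2, 3, 4], ![0, 1, 2, 7, 4], ![0, 2, 1, 3, 4], ![0, 2, 1, 7, 4], ![0, 5, 6, 3, 4],
    ![0, 5, 6, 7, 4], ![0, 6, 5, 3, 4], ![0, 6, 5, 7, 4]]

theorem enc32_v : ∀ j, enc32 (v32 j) = code32 j := by decide

theorem enc16_lt (w : Fin 4 → ZMod 2) : enc16 w < 16 := by
  have := ZMod.val_lt (w 0); have := ZMod.val_lt (w 1); have := ZMod.val_lt (w 2)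
  have := ZMod.val_lt (w 3)
  unfold enc16
  omega

theorem enc32_inj (u w : Fin 5 → ZMod 2) (h : enc32 u = enc32 w) : u = w := by
  unfold enc32 at h
  have h1 := enc16_lt fun i => u (Fin.castSucc i)
  have h2 := enc16_lt fun i => w (Fin.castSucc i)
  have := ZMod.val_lt (u 4); have := ZMod.val_lt (w 4)
  have h3 : enc16 (fun i => u (Fin.castSucc i)) = enc16 (fun i => w (Fin.castSucc i)) := by omega
  have h4 : (u 4).val = (w 4).val := by omega
  funext i
  induction i using Fin.lastCases with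
  | last => exact ZMod.val_injective 2 h4
  | cast i => exact congrFun (enc16_inj _ _ h3) i

theorem enc32_add (u w : Fin 5 → ZMod 2) : enc32 (u + w) = enc32 u ^^^ enc32 w := by
  have h : ∀ a < 16, ∀ b < 16, ∀ c d : ZMod 2,
      (a ^^^ b) + 16 * (c + d).val = (a + 16 * c.val) ^^^ (b + 16 * d.val) := by decide +kernel
  unfold enc32
  rw [← h _ (enc16_lt _) _ (enc16_lt _), ← enc16_add]
  rfl

theorem enc32_comb (σ : Fin 5 → Fin 8) : ∀ j, enc32 (comb v32 σ (v32 j)) = img32 σ j := by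
  intro j
  have e : comb v32 σ (v32 j) = ![v32 (σ 0), v32 (σ 1), v32 (σ 2), v32 (σ 3), v32 (σ 4),
      v32 (σ 0) + v32 (σ 1), v32 (σ 0) + v32 (σ 2), v32 (σ 1) + v32 (σ 2) + v32 (σ 3)] j := by
    funext k; fin_cases j <;> simp [comb, Fin.sum_univ_five, v32]
  rw [e]
  fin_cases j <;> simp [img32, enc32_add, enc32_v]

theorem mem_auts32 (σ : Fin 5 → Fin 8) (hσ : Valid v32 σ) : σ ∈ auts32 := by
  have h : ∀ s₀ s₁ : Fin 8, s₀ ≠ s₁ → (∃ t, code32 t = code32 s₀ ^^^ code32 s₁) →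
      ∀ s₂ : Fin 8, s₀ ≠ s₂ → s₁ ≠ s₂ → (∃ t, code32 t = code32 s₀ ^^^ code32 s₂) →
      ∀ s₃ : Fin 8, (∃ t, code32 t = (code32 s₁ ^^^ code32 s₂) ^^^ code32 s₃) →
      (∀ j j', j ≠ 4 → j' ≠ 4 →
        img32 ![s₀, s₁, s₂, s₃, 0] j = img32 ![s₀, s₁, s₂, s₃, 0] j' → j = j') →
      ∀ s₄ : Fin 8, (∀ j, j ≠ 4 → code32 s₄ ≠ img32 ![s₀, s₁, s₂, s₃, 0] j) →
      ![s₀, s₁, s₂, s₃, s₄] ∈ auts32 := by
    decide +kernel
  have himg : ∀ j, ∃ t, code32 t = img32 σ j := fun j => by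
    obtain ⟨t, ht⟩ := hσ.1 j
    exact ⟨t, by rw [← enc32_v, ht, enc32_comb]⟩
  have hinj : ∀ j j', img32 σ j = img32 σ j' → j = j' := fun j j' hjj =>
    hσ.2 j j' (enc32_inj _ _ (by rw [enc32_comb, enc32_comb, hjj]))
  have hi : ∀ j, j ≠ 4 → img32 σ j = img32 ![σ 0, σ 1, σ 2, σ 3, 0] j := by
    intro j hj
    fin_cases j <;> first | exact absurd rfl hj | simp [img32]
  have hne : ∀ i i' : Fin 5, i ≠ i' → σ i ≠ σ i' := fun i i' hii he => hii (by
    have hfirst : ∀ i : Fin 5, img32 σ (Fin.castLE (by norm_num) i) = code32 (σ i) := by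
      intro i; fin_cases i <;> rfl
    have h' := hinj _ _ ((hfirst i).trans ((congrArg code32 he).trans (hfirst i').symm))
    exact Fin.castLE_injective _ h')
  have e : σ = ![σ 0, σ 1, σ 2, σ 3, σ 4] := by funext i; fin_cases i <;> rfl
  rw [e]
  refine h _ _ (hne 0 1 (by decide)) (himg 5) _ (hne 0 2 (by decide)) (hne 1 2 (by decide)) (himg 6) _
    (himg 7) (fun j j' hj hj' hjj => hinj j j' (by rw [hi j hj, hi j' hj', hjj])) _ fun j hj hjj => ?_
  refine hj (hinj j 4 ?_)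
  rw [hi j hj, ← hjj]
  rfl

theorem design_32 : Nonempty (Design 2 5 8) := by
  have hb : (auts32.all fun σ => auts32.all fun σ' => (List.finRange 5).all fun i =>
      Nat.beq (img32 σ (σ' i)) (img32 σ' (σ i))) = true := by
    decide +kernel
  have hcheck : ∀ σ ∈ auts32, ∀ σ' ∈ auts32, ∀ i, img32 σ (σ' i) = img32 σ' (σ i) := fun σ h σ' h' i =>
    Nat.eq_of_beq_eq_true (List.all_eq_true.1 (List.all_eq_true.1 (List.all_eq_true.1 hb σ h) σ' h')
      i (List.mem_finRange i))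
  exact ⟨⟨v32, Fin.castLE (by norm_num), by decide, by decide, by decide, fun σ σ' h h' i =>
    enc32_inj _ _ (by
      rw [enc32_comb, enc32_comb, hcheck σ (mem_auts32 σ h) σ' (mem_auts32 σ' h') i])⟩⟩

end Cfsg.Agent.StabilizerLength
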