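import Cfsg.Agent.Lib.StabilizerLength.ColourBasic
import Mathlib.Data.Fin.VecNotation
import Mathlib.Logic.Equiv.Fin.Basic

/-!
# Partitions of affine spaces with abelian stabilisers

* `hasThree_of_design`: from an origin and a small set spanning the space whose linear stabiliser is
  commutative.
* The designs for degrees 9, 16, 25, 27, 32, 49.
-/

set_option autoImplicit false
set_option linter.style.haveILetI false
set_option linter.unusedSectionVars false

namespace Cfsg.Agent.StabilizerLength

open MulAction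

universe u

section Comb

variable {p a b : ℕ}

/-- The combination of members of `v` with coefficients given by `w`. -/
def comb (v : Fin b → Fin a → ZMod p) (σ : Fin a → Fin b) (w : Fin a → ZMod p) : Fin a → ZMod p :=
  fun k => ∑ i, w i * v (σ i) k

/-- A candidate image of the coordinate vectors. -/
def Valid (v : Fin b → Fin a → ZMod p) (σ : Fin a → Fin b) : Prop :=
  (∀ j, ∃ t, v t = comb v σ (v j)) ∧ ∀ j j', comb v σ (v j) = comb v σ (v j') → j = j'

/-- A small set spanning the space, with commutative linear stabiliser. -/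
structure Design (p a b : ℕ) where
  /-- The set. -/
  v : Fin b → Fin a → ZMod p
  /-- The coordinate vectors in the set. -/
  base : Fin a → Fin b
  base_eq : ∀ i k, v (base i) k = if i = k then 1 else 0
  inj : ∀ j j', v j = v j' → j = j'
  nz : ∀ j, v j ≠ 0
  comm : ∀ σ σ', Valid v σ → Valid v σ' → ∀ i, comb v σ (v (σ' i)) = comb v σ' (v (σ i))

end Comb

theorem hasThree_of_design {G : Type u} [Group G] [Finite G] {X : Type u} [Finite X]
    [MulAction G X] (T : Affine G X) {p a b : ℕ} [Fact p.Prime] (φ : T.F ≃+ (Fin a → ZMod p))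
    (hX : Nat.card X = p ^ a) (D : Design p a b) (hb : b ≠ 1) (hbX : b + 2 < p ^ a)
    (hbb : 2 * b + 1 ≠ p ^ a) : HasThree G X := by
  classical
  haveI := Fintype.ofFinite X
  let B : Finset X := Finset.univ.image fun j : Fin b => T.e (φ.symm (D.v j))
  have hB : B.card = b := by
    rw [Finset.card_image_of_injective _
      (fun j j' h => D.inj j j' (φ.symm.injective (T.e.injective h))), Finset.card_univ,
      Fintype.card_fin]
  have h0B : T.e 0 ∉ B := fun h => by
    obtain ⟨j, -, hj⟩ := Finset.mem_image.1 h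
    exact D.nz j (by simpa using T.e.injective hj)
  let part : X → Fin 3 := fun x => if x = T.e 0 then 0 else if x ∈ B then 1 else 2
  have hp0 : ∀ x, part x = 0 ↔ x = T.e 0 := fun x => by simp only [part]; split_ifs <;> simp_all
  have hp1 : ∀ x, part x = 1 ↔ x ∈ B := fun x => by
    simp only [part]; split_ifs with h1 h2 <;> simp_all
  have hsz : ∀ k, Nat.card {x // part x = k} = ![1, b, p ^ a - 1 - b] k := by
    have e0 : Nat.card {x // part x = 0} = 1 := by
      rw [Nat.card_congr (Equiv.subtypeEquivRight hp0)]; simp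
    have e1 : Nat.card {x // part x = 1} = b := by
      rw [Nat.card_congr (Equiv.subtypeEquivRight hp1), Nat.card_eq_fintype_card,
        Fintype.card_coe, hB]
    have e2 : Nat.card {x // part x = 0} + Nat.card {x // part x = 1} + Nat.card {x // part x = 2} =
        p ^ a := by
      rw [← hX, ← Nat.card_congr (Equiv.sigmaFiberEquiv part), Nat.card_sigma, Fin.sum_univ_three]
    intro k
    fin_cases k
    · exact e0
    · exact e1
    · show Nat.card {x // part x = 2} = p ^ a - 1 - b
      omega
  have hsinj : Function.Injective ![1, b, p ^ a - 1 - b] := by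
    intro i j
    fin_cases i <;> fin_cases j <;> simp <;> omega
  obtain ⟨π, hπ⟩ : ∃ π : Fin 5 → Equiv.Perm (Fin 3), ∀ i j, i ≠ j → ∃ k, π i k ≠ π j k :=
    ⟨![1, Equiv.swap 0 1, Equiv.swap 0 2, Equiv.swap 1 2, Equiv.swap 0 1 * Equiv.swap 1 2], by decide⟩
  refine ⟨fun i x => π i (part x), inequiv_of_count _ fun i j hij => ?_, fun i => Or.inr ?_⟩
  · by_contra h
    push Not at h
    obtain ⟨k, hk⟩ := hπ i j hij
    refine hk ?_
    obtain ⟨k', hk'⟩ := (π j).surjective (π i k)
    have hc : ∀ (s : Fin 5) (t : Fin 3),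
        Nat.card {x // π s (part x) = π s t} = ![1, b, p ^ a - 1 - b] t := fun s t => by
      rw [← hsz t]
      exact Nat.card_congr (Equiv.subtypeEquivRight fun x => (π s).injective.eq_iff)
    have hkk := h (π i k)
    rw [hc] at hkk
    rw [← hk', hc] at hkk
    have he := hsinj hkk
    subst he
    exact hk'.symm
  -- the stabiliser is commutative
  let e : Fin a → T.F := fun i => φ.symm (D.v (D.base i))
  have hsum : ∀ w : Fin a → ZMod p, w = ∑ i, (w i).val • D.v (D.base i) := fun w => by
    funext k
    rw [Finset.sum_apply, Finset.sum_eq_single k]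
    · simp [D.base_eq]
    · exact fun i _ hik => by simp [D.base_eq, hik]
    · simp
  have hspan : ∀ (g : G) (σ : Fin a → Fin b), (∀ i, φ (T.lin g (e i)) = D.v (σ i)) →
      ∀ w, φ (T.lin g (φ.symm w)) = comb D.v σ w := fun g σ hσ w => by
    conv_lhs => rw [hsum w]
    simp only [map_sum, map_nsmul]
    rw [Finset.sum_congr rfl fun i _ => congrArg ((w i).val • ·) (hσ i)]
    funext k
    rw [Finset.sum_apply]
    exact Finset.sum_congr rfl fun i _ => by rw [Pi.smul_apply, nsmul_eq_mul, ZMod.natCast_zmod_val]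
  have key : ∀ g ∈ colStab G (fun x => π i (part x)), T.tr g = 0 ∧
      ∃ σ : Fin a → Fin b, Valid D.v σ ∧ ∀ i, φ (T.lin g (e i)) = D.v (σ i) := by
    intro g hg
    have hg' : ∀ x, part (g • x) = part x := fun x => (π i).injective (hg x)
    have ht : T.tr g = 0 := by
      have h := (T.smul_eq_self_iff g 0).1 ((hp0 _).1 ((hg' _).trans ((hp0 _).2 rfl)))
      rwa [map_zero, zero_add] at h
    have himg : ∀ j, ∃ t, φ (T.lin g (φ.symm (D.v j))) = D.v t := fun j => by
      have h := (hp1 _).1 ((hg' _).trans ((hp1 (T.e (φ.symm (D.v j)))).2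
        (Finset.mem_image.2 ⟨j, Finset.mem_univ _, rfl⟩)))
      obtain ⟨t, -, ht'⟩ := Finset.mem_image.1 h
      refine ⟨t, ?_⟩
      rw [T.smul_eq, T.e.injective.eq_iff, ht, add_zero] at ht'
      rw [← ht', AddEquiv.apply_symm_apply]
    refine ⟨ht, fun i => (himg (D.base i)).choose, ?_, fun i => (himg (D.base i)).choose_spec⟩
    have hs := hspan g _ fun i => (himg (D.base i)).choose_spec
    refine ⟨fun j => ?_, fun j j' h => ?_⟩
    · obtain ⟨t, ht'⟩ := himg j
      exact ⟨t, by rw [← hs, ht']⟩
    · rw [← hs, ← hs, φ.injective.eq_iff] at h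
      refine D.inj j j' (φ.symm.injective (T.e.injective ?_))
      refine smul_left_cancel g ?_
      rw [T.smul_eq, T.smul_eq, h]
  refine DL.of_comm fun g hg k hk x => ?_
  obtain ⟨hg0, σ, hσ, hσe⟩ := key g hg
  obtain ⟨hk0, σ', hσ', hσe'⟩ := key k hk
  have hbase : ∀ i, T.lin g (T.lin k (e i)) = T.lin k (T.lin g (e i)) := fun i => φ.injective (by
    have e1 : T.lin k (e i) = φ.symm (D.v (σ' i)) := by rw [← hσe', AddEquiv.symm_apply_apply]
    have e2 : T.lin g (e i) = φ.symm (D.v (σ i)) := by rw [← hσe, AddEquiv.symm_apply_apply]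
    rw [e1, e2, hspan g σ hσe, hspan k σ' hσe']
    exact D.comm σ σ' hσ hσ' i)
  obtain ⟨y, rfl⟩ := T.e.surjective x
  simp only [T.smul_eq, hg0, hk0, add_zero]
  congr 1
  rw [← φ.symm_apply_apply y, hsum (φ y)]
  simp only [map_sum, map_nsmul]
  exact Finset.sum_congr rfl fun i _ => congrArg _ (hbase i)

end Cfsg.Agent.StabilizerLength
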