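import Cfsg.Agent.Lib.StabilizerLength.Colour

/-!
# The imprimitive case

`dichotomy_of_decomp`: five good vectors, or small length, given the same for the summands.
-/

set_option autoImplicit false
set_option linter.style.haveILetI false
set_option linter.unusedSectionVars false

namespace Cfsg.Agent.StabilizerLength

open OddBaseTwo MulAction

universe u v

variable {A : Type u} [Group A] [Finite A] {V : Type u} [AddCommGroup V] [Finite V]
  [DistribMulAction A V] {ι : Type u} [Fintype ι] [MulAction A ι] {W : ι → AddSubgroup V}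

/-- A vector fixed up to colours gives the colours. -/
theorem colour_eq_of_smul (hd : IsDecomp (A := A) W) {i₀ : ι} (rep : ι → A)
    (hrep : ∀ i, rep i • i₀ = i) {κ : Type v} (t : κ → W i₀)
    (ht : letI := subAction (W i₀) (inv_block hd i₀);
      ∀ a b (g : stabilizer A i₀), g • t a = t b → a = b)
    (f f' : ι → κ) {g : A}
    (hg : g • ∑ i, rep i • (t (f i) : V) = ∑ i, rep i • (t (f' i) : V)) (i : ι) :
    f' (g • i) = f i := by
  letI := subAction (W i₀) (inv_block hd i₀)
  have hmem : ∀ i (x : W i₀), rep i • (x : V) ∈ W i := fun i x => by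
    have := hd.smul_mem (rep i) i₀ _ x.2
    rwa [hrep] at this
  have h : ∑ j, g • rep (g⁻¹ • j) • (t (f (g⁻¹ • j)) : V) = ∑ j, rep j • (t (f' j) : V) := by
    rw [← hg, Finset.smul_sum]
    exact Equiv.sum_comp (MulAction.toPerm g⁻¹) (fun j => g • rep j • (t (f j) : V))
  have h1 := hd.eq_of_sum_eq (fun j => by
    have := hd.smul_mem g _ _ (hmem (g⁻¹ • j) (t (f (g⁻¹ • j))))
    rwa [smul_inv_smul] at this) (fun j => hmem j (t (f' j))) h (g • i)
  rw [inv_smul_smul] at h1
  have hb : (rep (g • i))⁻¹ * g * rep i ∈ stabilizer A i₀ := by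
    rw [mem_stabilizer_iff, mul_smul, mul_smul, hrep, inv_smul_eq_iff, hrep]
  refine (ht _ _ ⟨_, hb⟩ (Subtype.ext ?_)).symm
  show ((rep (g • i))⁻¹ * g * rep i) • (t (f i) : V) = (t (f' (g • i)) : V)
  rw [mul_smul, mul_smul, h1, inv_smul_smul]

/-- Five inequivalent colourings give five good vectors. -/
theorem good_of_colourings (hd : IsDecomp (A := A) W) {i₀ : ι} (rep : ι → A)
    (hrep : ∀ i, rep i • i₀ = i) {κ : Type v} (t : κ → W i₀)
    (ht : letI := subAction (W i₀) (inv_block hd i₀);
      ∀ a b (g : stabilizer A i₀), g • t a = t b → a = b)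
    (c : Fin 5 → ι → κ) (hc : Inequiv A c)
    (hdl : ∀ k, ∃ a b, a + b ≤ 9 ∧ DL ι (colStab A (c k)) a ∧ ∀ i,
      letI := subAction (W i₀) (inv_block hd i₀);
      DL (W i₀) (stabilizer (stabilizer A i₀) (t (c k i))) b) :
    Good A V := by
  refine ⟨fun k => ∑ i, rep i • (t (c k i) : V), fun k k' g hg => hc k k' g
    (colour_eq_of_smul hd rep hrep t ht (c k) (c k') hg), fun k => ?_⟩
  obtain ⟨a, b, hab, ha, hb⟩ := hdl k
  refine (dl_sum hd rep hrep t (c k) (fun g hg => mem_stabilizer_iff.1 hg) (ha.mono ?_ le_rfl)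
    hb).mono le_rfl hab
  exact fun g hg => mem_colStab.2
    (colour_eq_of_smul hd rep hrep t ht (c k) (c k) (mem_stabilizer_iff.1 hg))

/-- Five good vectors, or small length. -/
theorem dichotomy_of_decomp (hsol : Group.IsSolvable A) (hirr : IsIrr A V)
    (hd : IsDecomp (A := A) W) {i₀ : ι} (h2 : 1 < Fintype.card ι)
    (hmax : IsCoatom (stabilizer A i₀))
    (hB : letI := subAction (W i₀) (inv_block hd i₀);
      Good (stabilizer A i₀) (W i₀) ∨ Few (stabilizer A i₀) (W i₀)) :
    Good A V ∨ Few A V := by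
  classical
  haveI := hsol
  letI := subAction (W i₀) (inv_block hd i₀)
  haveI := nontrivial_block hd i₀
  haveI := isPretransitive hd hirr
  choose rep hrep using exists_rep hd hirr i₀
  have hzero : ∀ (g : stabilizer A i₀) (x : W i₀), g • (0 : W i₀) = x → x = 0 := fun g x h =>
    h.symm.trans (smul_zero g)
  rcases hB with ⟨t, ht, htdl⟩ | ⟨h8, h7, h4⟩
  · -- five colours
    left
    haveI : Nonempty ι := ⟨i₀⟩
    obtain ⟨c, hc⟩ := BaseThree.exists_five_colourings (BaseThree.baseBelow3 (Nat.card V)) (G := A)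
      (X := ι) hsol (card_index_lt hd hirr i₀)
    let q : ZMod 5 ≃ Fin 5 := Equiv.refl _
    refine good_of_colourings hd rep hrep (fun a : ZMod 5 => t (q a))
      (fun a b g h => q.injective (ht _ _ g h)) (fun k => c (q.symm k))
      (fun k k' g hg => q.symm.injective (hc _ _ g hg).1) fun k => ⟨0, 9, le_rfl, ?_, fun i => htdl _⟩
    exact fun g hg x => (hc (q.symm k) (q.symm k) g (mem_colStab.1 hg)).2 x
  obtain ⟨hK2, hK3⟩ := hasTwo_hasThree (X := ι) hsol hmax
  obtain ⟨w, hw⟩ := exists_ne (0 : W i₀)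
  by_cases htr : ∀ x y : W i₀, x ≠ 0 → y ≠ 0 → ∃ g : stabilizer A i₀, g • x = y
  · -- transitive summands
    have h4' := h4 htr
    let t : Bool → W i₀ := fun b => if b then w else 0
    have ht : ∀ a b (g : stabilizer A i₀), g • t a = t b → a = b := by
      intro a b g h
      rcases a with _ | _ <;> rcases b with _ | _ <;> simp only [t] at h
      · rfl
      · exact absurd (hzero g w (by simpa using h)) hw
      · exact absurd (hzero g⁻¹ w (inv_smul_eq_iff.2 (by simpa using h.symm))) hw
      · rfl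
    have hblock : ∀ b, DL (W i₀) (stabilizer (stabilizer A i₀) (t b)) 4 := fun b =>
      h4'.mono le_top le_rfl
    by_cases hm4 : 4 ≤ Fintype.card ι
    · obtain ⟨c, hc, hcdl⟩ := hK2 (by rwa [Nat.card_eq_fintype_card])
      exact Or.inl (good_of_colourings hd rep hrep t ht c hc
        fun k => ⟨5, 4, le_rfl, hcdl k, fun i => hblock _⟩)
    right
    have hι : DL ι (⊤ : Subgroup A) 2 :=
      permB_three A ι (by rw [Nat.card_eq_fintype_card]; omega) hsol
    have htop : DL V (⊤ : Subgroup A) 6 :=
      dl_sum hd rep hrep t (fun _ => false) (fun g _ => by simp [t]) hι fun i => hblock _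
    refine ⟨htop.mono le_rfl (by norm_num), fun x _ => htop.mono le_top (by norm_num),
      fun htrV => absurd htrV ?_⟩
    intro htrV
    obtain ⟨j, hj⟩ := Fintype.exists_ne_of_one_lt_card h2 i₀
    let f : ι → Bool := fun i => decide (i = i₀)
    have hne : ∀ f : ι → Bool, f i₀ = true → ∑ i, rep i • (t (f i) : V) ≠ 0 := by
      intro f hf h
      have h1 := hd.eq_of_sum_eq (f := fun i => rep i • (t (f i) : V)) (g := fun _ => 0) (fun i => by
        have := hd.smul_mem (rep i) i₀ _ (t (f i)).2
        rwa [hrep] at this) (fun i => zero_mem _) (by simpa using h) i₀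
      simp only [hf, t, if_true] at h1
      rw [smul_eq_zero_iff_eq] at h1
      exact hw (Subtype.ext h1)
    obtain ⟨g, hg⟩ := htrV _ _ (hne f (by simp [f])) (hne (fun _ => true) rfl)
    have hall := colour_eq_of_smul hd rep hrep t ht f (fun _ => true) hg j
    simp [f, hj] at hall
  -- at least two orbits of nonzero vectors in the summands
  left
  push Not at htr
  obtain ⟨x, y, hx, hy, hxy⟩ := htr
  let t : Fin 3 → W i₀ := ![0, x, y]
  have ht : ∀ a b (g : stabilizer A i₀), g • t a = t b → a = b := by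
    intro a b g h
    fin_cases a <;> fin_cases b <;> simp [t] at h ⊢
    · exact hx h.symm
    · exact hy h.symm
    · exact hx ((smul_eq_zero_iff_eq g).1 h)
    · exact hxy g h
    · exact hy ((smul_eq_zero_iff_eq g).1 h)
    · exact hxy g⁻¹ (inv_smul_eq_iff.2 h.symm)
  obtain ⟨c, hc, hcdl⟩ := hK3 (by rw [Nat.card_eq_fintype_card]; omega)
  refine good_of_colourings hd rep hrep t ht c hc fun k => ?_
  rcases hcdl k with ⟨hne, hdl⟩ | hdl
  · refine ⟨2, 7, le_rfl, hdl, fun i => h7 _ ?_⟩
    obtain h | h : c k i = 1 ∨ c k i = 2 := by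
      have hall : ∀ a : Fin 3, a ≠ 0 → a = 1 ∨ a = 2 := by decide
      exact hall _ (hne i)
    · rw [h]; exact hx
    · rw [h]; exact hy
  · exact ⟨1, 8, le_rfl, hdl, fun i => h8.mono le_top le_rfl⟩

end Cfsg.Agent.StabilizerLength
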