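import Cfsg.Agent.Lib.StabilizerLength.Sixteen
import Cfsg.Agent.Lib.SolvableTransitive.Main

/-!
# The primitive case

`dichotomy_primitive`: five good vectors, or small length.
-/

set_option autoImplicit false
set_option linter.style.haveILetI false
set_option linter.unusedSectionVars false

namespace Cfsg.Agent.StabilizerLength

open OddBaseTwo SolvableTransitive MulAction

universe u

/-- Many vectors with good stabilisers give five in different orbits. -/
theorem good_of_count {A : Type u} [Group A] [Finite A] {V : Type u} [AddCommGroup V] [Finite V]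
    [DistribMulAction A V] (S : Finset V) (hS : 4 * Nat.card A < S.card)
    (hdl : ∀ x ∈ S, DL V (stabilizer A x) 9) : Good A V := by
  classical
  haveI := Fintype.ofFinite A
  suffices h : ∀ n ≤ 5, ∃ t : Fin n → V, (∀ i j (g : A), g • t i = t j → i = j) ∧ ∀ i, t i ∈ S by
    obtain ⟨t, h1, h2⟩ := h 5 le_rfl
    exact ⟨t, h1, fun i => hdl _ (h2 i)⟩
  intro n hn
  induction n with
  | zero => exact ⟨fun i => i.elim0, fun i => i.elim0, fun i => i.elim0⟩
  | succ n ih =>
    obtain ⟨t, h1, h2⟩ := ih (by omega)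
    let used : Finset V := (Finset.univ : Finset (Fin n × A)).image fun p => p.2 • t p.1
    have hu : used.card ≤ n * Nat.card A := by
      refine Finset.card_image_le.trans (le_of_eq ?_)
      rw [Finset.card_univ, Fintype.card_prod, Fintype.card_fin, Nat.card_eq_fintype_card]
    obtain ⟨f, hfS, hf⟩ : ∃ f ∈ S, f ∉ used := by
      refine Finset.not_subset.1 fun h => ?_
      have h3 := (Finset.card_le_card h).trans hu
      have h4 : n * Nat.card A ≤ 4 * Nat.card A := Nat.mul_le_mul_right _ (by omega)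
      omega
    refine ⟨Fin.snoc t f, fun i j g hg => ?_, Fin.lastCases (by simpa using hfS) (by simpa using h2)⟩
    induction i using Fin.lastCases with
    | last =>
      induction j using Fin.lastCases with
      | last => rfl
      | cast j =>
        exfalso
        simp only [Fin.snoc_last, Fin.snoc_castSucc] at hg
        exact hf (Finset.mem_image.2 ⟨(j, g⁻¹), Finset.mem_univ _, inv_smul_eq_iff.2 hg.symm⟩)
    | cast i =>
      induction j using Fin.lastCases with
      | last =>
        exfalso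
        simp only [Fin.snoc_last, Fin.snoc_castSucc] at hg
        exact hf (Finset.mem_image.2 ⟨(i, g), Finset.mem_univ _, hg⟩)
      | cast j =>
        simp only [Fin.snoc_castSucc] at hg
        exact congrArg Fin.castSucc (h1 i j g hg)

theorem gap_four : ∀ e, 129 ≤ e → 6 * e ^ 8 ≤ 4 ^ ((e + 3) / 4 - 1) := by
  intro e
  induction e using Nat.strong_induction_on with
  | _ e ih =>
  intro he
  by_cases h : e < 133
  · interval_cases e <;> norm_num
  obtain ⟨j, rfl⟩ := Nat.exists_eq_add_of_le' (show 4 ≤ e by omega)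
  have h1 := ih j (by omega) (by omega)
  have h2 : (j + 4) ^ 8 ≤ 4 * j ^ 8 := by
    have ha : (10 * (j + 4)) ^ 8 ≤ (11 * j) ^ 8 := Nat.pow_le_pow_left (by omega) 8
    rw [mul_pow, mul_pow] at ha
    norm_num at ha
    omega
  rw [show (j + 4 + 3) / 4 - 1 = (j + 3) / 4 - 1 + 1 by omega, pow_succ 4]
  omega

theorem gap_three : ∀ j, 8 ≤ j → 6 * (2 ^ j) ^ 8 ≤ 3 ^ ((2 ^ j + 3) / 4 - 1) := by
  intro j hj
  induction j, hj using Nat.le_induction with
  | base => norm_num
  | succ n hn ih =>
    have h256 : 256 ≤ 2 ^ n := le_trans (by norm_num) (Nat.pow_le_pow_right two_pos hn)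
    calc 6 * (2 ^ (n + 1)) ^ 8 = 256 * (6 * (2 ^ n) ^ 8) := by rw [pow_succ 2 n, mul_pow]; ring
      _ ≤ 3 ^ 6 * 3 ^ ((2 ^ n + 3) / 4 - 1) := Nat.mul_le_mul (by norm_num) ih
      _ ≤ 3 ^ ((2 ^ (n + 1) + 3) / 4 - 1) := by
        rw [← pow_add]
        refine Nat.pow_le_pow_right (by norm_num) ?_
        rw [pow_succ 2 n]
        omega

section

variable {A : Type u} [Group A] [Finite A] {K : Type u} [Field K] [Finite K] {V : Type u}
  [AddCommGroup V] [Module K V] [DistribMulAction A V] [FaithfulSMul A V] [Finite V]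
  (P : PrimData A K V)

theorem fixed_sq_le_M {y : A} (hy : y ∈ P.M) (hyZ : y ∉ P.Z) :
    Nat.card (fixSub (V := V) y) ^ 2 ≤ Nat.card V := by
  obtain ⟨x, hx, hne⟩ : ∃ x ∈ P.M, y * x ≠ x * y := by
    by_contra! h
    exact hyZ (P.good.center y hy h)
  have h1 : fixSub (V := V) y ⊓ fixSub (x * y * x⁻¹) = ⊥ := eq_bot_iff.2 fun v hv => by
    refine AddSubgroup.mem_bot.2 (P.fix_Z (z := ⟨x * y * x⁻¹ * y⁻¹, P.good.comm x hx y hy⟩)
      (fun h => hne ?_) ?_)
    · have h' : x * y * x⁻¹ * y⁻¹ = 1 := congrArg Subtype.val h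
      calc y * x = 1 * (y * x) := (one_mul _).symm
        _ = x * y * x⁻¹ * y⁻¹ * (y * x) := by rw [h']
        _ = x * y := by group
    · show (x * y * x⁻¹ * y⁻¹) • v = v
      obtain ⟨hv1, hv2⟩ := hv
      change y • v = v at hv1
      change (x * y * x⁻¹) • v = v at hv2
      conv_lhs => rw [← hv1]
      rw [← mul_smul, inv_mul_cancel_right, hv2]
  have h2 := card_mul_card_le (fixSub (V := V) y) (fixSub (x * y * x⁻¹))
  rwa [h1, AddSubgroup.card_bot, one_mul, card_fix_conj, ← sq] at h2

theorem fixed_four_le {g : A} (hg : g ∈ P.C) (hgZ : g ∉ P.Z) :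
    Nat.card (fixSub (V := V) g) ^ 4 ≤ Nat.card V ^ 3 := by
  obtain ⟨x, hx, hne⟩ : ∃ x ∈ P.M, g * x ≠ x * g := by
    by_contra! h
    exact hgZ (P.cent g hg h)
  set y := x * g * x⁻¹ * g⁻¹ with hy
  have hyM : y ∈ P.M := by
    rw [show y = x * (g * x⁻¹ * g⁻¹) by rw [hy]; group]
    exact P.M.mul_mem hx (P.normal_M.conj_mem _ (inv_mem hx) g)
  have hsub : fixSub (V := V) g ⊓ fixSub (x * g * x⁻¹) ≤ fixSub y := fun v ⟨h1, h2⟩ => by
    change g • v = v at h1
    change (x * g * x⁻¹) • v = v at h2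
    show y • v = v
    rw [hy]
    conv_lhs => rw [← h1]
    rw [← mul_smul, inv_mul_cancel_right, h2]
  have h := (card_mul_card_le (fixSub (V := V) g) (fixSub (x * g * x⁻¹))).trans
    (Nat.mul_le_mul_right _ (AddSubgroup.card_le_of_le hsub))
  rw [card_fix_conj, ← sq] at h
  have hy2 : Nat.card (fixSub (V := V) y) ^ 2 ≤ Nat.card V := by
    by_cases hyZ : y ∈ P.Z
    · rw [P.card_fix_Z hyZ fun h1 => hne ?_, one_pow]
      · exact Nat.card_pos
      · calc g * x = 1 * (g * x) := (one_mul _).symm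
          _ = y * (g * x) := by rw [h1]
          _ = x * g := by rw [hy]; group
    · exact fixed_sq_le_M P hyM hyZ
  calc Nat.card (fixSub (V := V) g) ^ 4 = (Nat.card (fixSub (V := V) g) ^ 2) ^ 2 := by ring
    _ ≤ (Nat.card (fixSub (V := V) y) * Nat.card V) ^ 2 := Nat.pow_le_pow_left h 2
    _ = Nat.card (fixSub (V := V) y) ^ 2 * Nat.card V ^ 2 := by ring
    _ ≤ Nat.card V * Nat.card V ^ 2 := Nat.mul_le_mul_right _ hy2
    _ = Nat.card V ^ 3 := by ring

theorem card_fix_le {m : ℕ} (hm : Nat.card V = Nat.card K ^ m) {g : A} (hg : g ∈ P.C)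
    (hgZ : g ∉ P.Z) : Nat.card (fixSub (V := V) g) ≤ Nat.card K ^ (3 * m / 4) := by
  obtain ⟨d, hd⟩ := P.exists_card_fix_eq hg
  have h := fixed_four_le P hg hgZ
  rw [hd, hm, ← pow_mul, ← pow_mul] at h
  have := (Nat.pow_le_pow_iff_right Finite.one_lt_card).1 h
  rw [hd]
  exact Nat.pow_le_pow_right Nat.card_pos (by omega)

/-- The large sections. -/
theorem good_of_big [Nontrivial V] (hsol : Group.IsSolvable A) {e m : ℕ}
    (he : Nat.card P.W = e * e) (hem : e ≤ m) (hV : Nat.card V = Nat.card K ^ m)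
    (hq : ∀ r : ℕ, r.Prime → r ∣ e → r + 1 ≤ Nat.card K) (hcomm : commutator A ≤ P.C)
    (hidx : P.C.index ≤ Nat.card K) (he64 : 64 ≤ e) : Good A V := by
  classical
  haveI := Fintype.ofFinite A
  haveI := Fintype.ofFinite V
  set q := Nat.card K with hqdef
  have hq2 : 2 ≤ q := Finite.one_lt_card
  have hq3 : 3 ≤ q := by
    obtain ⟨r, hr, hre⟩ := Nat.exists_prime_and_dvd (show e ≠ 1 by omega)
    have := hq r hr hre
    have := hr.two_le
    omega
  have haut : Nat.card (SolvClassBound.autC P) ≤ e ^ 6 := by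
    refine (SolvClassBound.autC_le_cube P hsol).trans (le_of_eq ?_)
    rw [he]; ring
  have hZ : Nat.card P.Z ≤ q := (Nat.card_le_card_of_injective _ P.χ_injective).trans
    ((Nat.card_units K).le.trans (Nat.sub_le _ _))
  have hC : Nat.card P.C ≤ e ^ 8 * q := by
    rw [SolvClassBound.card_C P, he]
    calc _ ≤ e ^ 6 * (e * e * q) := Nat.mul_le_mul haut (Nat.mul_le_mul_left _ hZ)
      _ = e ^ 8 * q := by ring
  have hA : Nat.card A ≤ e ^ 8 * q * q := by
    rw [← Subgroup.index_mul_card P.C, mul_comm]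
    exact Nat.mul_le_mul hC hidx
  by_cases hsmall : e ≤ 128
  · -- every nonzero vector is good
    refine good_of_count (Finset.univ.erase (0 : V)) ?_ fun x hx => ?_
    · rw [Finset.card_erase_of_mem (Finset.mem_univ _), Finset.card_univ,
        ← Nat.card_eq_fintype_card, hV]
      have h1 : 4 * (128 ^ 8) + 2 ≤ 3 ^ 62 := by norm_num
      have h2 : e ^ 8 ≤ 128 ^ 8 := Nat.pow_le_pow_left hsmall 8
      have h3 : 3 ^ 62 * (q * q) ≤ q ^ m := calc
        3 ^ 62 * (q * q) ≤ q ^ 62 * (q * q) := Nat.mul_le_mul_right _ (Nat.pow_le_pow_left hq3 62)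
        _ = q ^ 64 := by ring
        _ ≤ q ^ m := Nat.pow_le_pow_right (by omega) (by omega)
      have h4 : 1 ≤ q * q := Nat.one_le_iff_ne_zero.2 (by positivity)
      have h6 : 4 * (e ^ 8 * q * q) + 2 * (q * q) ≤ q ^ m := calc
        4 * (e ^ 8 * q * q) + 2 * (q * q) = (4 * e ^ 8 + 2) * (q * q) := by ring
        _ ≤ 3 ^ 62 * (q * q) := Nat.mul_le_mul_right _ (le_trans (by omega) h1)
        _ ≤ q ^ m := h3
      omega
    · have hx0 : x ≠ 0 := (Finset.mem_erase.1 hx).1
      exact dl_prim_stab P hcomm hsol (linB_16384.mono (he ▸ Nat.mul_le_mul hsmall hsmall) le_rfl)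
        (by norm_num) hx0
  -- counting
  let bad : Finset V := ((Finset.univ : Finset A).filter fun g => g ∈ P.C ∧ g ∉ P.Z).biUnion
    fun g => Finset.univ.filter fun x : V => g • x = x
  have hbad : bad.card ≤ e ^ 8 * q * q ^ (3 * m / 4) := by
    refine Finset.card_biUnion_le.trans ((Finset.sum_le_card_nsmul _ _ (q ^ (3 * m / 4))
      fun g hg => ?_).trans (Nat.mul_le_mul_right _ ?_))
    · obtain ⟨hgC, hgZ⟩ := (Finset.mem_filter.1 hg).2
      refine le_trans (le_of_eq ?_) (card_fix_le P hV hgC hgZ)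
      rw [Nat.card_eq_fintype_card]
      exact (Fintype.card_subtype _).symm
    · refine le_trans ?_ hC
      rw [Nat.card_eq_fintype_card, Fintype.card_subtype]
      exact Finset.card_le_card fun g hg => by
        simp only [Finset.mem_filter, Finset.mem_univ, true_and] at hg ⊢
        exact hg.1
  have hgap : 6 * e ^ 8 ≤ q ^ (m - 3 * m / 4 - 1) := by
    by_cases hq4 : 4 ≤ q
    · refine (gap_four e (by omega)).trans ((Nat.pow_le_pow_left hq4 _).trans
        (Nat.pow_le_pow_right (by omega) (by omega)))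
    · have hq' : q = 3 := by omega
      obtain ⟨j, hj⟩ : ∃ j, e = 2 ^ j := ⟨_, Nat.eq_prime_pow_of_unique_prime_dvd (by omega)
        fun {r} hr hre => by
          have := hq r hr hre
          have := hr.two_le
          omega⟩
      have hj8 : 8 ≤ j := by
        by_contra hj8
        have : 2 ^ j ≤ 2 ^ 7 := Nat.pow_le_pow_right two_pos (by omega)
        omega
      subst hj
      rw [hq']
      exact (gap_three j hj8).trans (Nat.pow_le_pow_right (by norm_num) (by omega))
  refine good_of_count ((Finset.univ.erase (0 : V)) \ bad) ?_ fun x hx => ?_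
  · refine lt_of_lt_of_le ?_ (Finset.le_card_sdiff _ _)
    rw [Finset.card_erase_of_mem (Finset.mem_univ _), Finset.card_univ,
      ← Nat.card_eq_fintype_card, hV]
    have hsplit : q ^ (m - 3 * m / 4 - 1) * (q * q ^ (3 * m / 4)) = q ^ m := by
      rw [← pow_succ', ← pow_add]
      congr 1
      omega
    have h1 : 6 * (e ^ 8 * q * q ^ (3 * m / 4)) ≤ q ^ m := by
      rw [← hsplit]
      calc 6 * (e ^ 8 * q * q ^ (3 * m / 4)) = 6 * e ^ 8 * (q * q ^ (3 * m / 4)) := by ring
        _ ≤ _ := Nat.mul_le_mul_right _ hgap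
    have h2 : e ^ 8 * q * q ≤ e ^ 8 * q * q ^ (3 * m / 4) :=
      Nat.mul_le_mul_left _ (Nat.le_self_pow (by omega) q)
    have h5 : 3 ≤ e ^ 8 * q * q := le_trans hq3 (Nat.le_mul_of_pos_left q (by positivity))
    omega
  · rw [Finset.mem_sdiff, Finset.mem_erase] at hx
    refine DL.mono (n := 1) ?_ le_rfl (by norm_num)
    intro g hg y
    have hgC : g ∈ P.C := der_one_le P hcomm _ hg
    have hgx : g • x = x := mem_stabilizer_iff.1 (der_le _ _ hg)
    by_cases hgZ : g ∈ P.Z
    · rw [eq_one_of_fix P hgZ hx.1.1 hgx, one_smul]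
    · exact absurd (Finset.mem_biUnion.2 ⟨g, Finset.mem_filter.2 ⟨Finset.mem_univ _, hgC, hgZ⟩,
        by simp [hgx]⟩) hx.2

theorem dl_transitive_exception [Nontrivial V] (hsol : Group.IsSolvable A) {e m : ℕ}
    (he : Nat.card P.W = e * e) (he3 : 3 ≤ e) (hem : e ≤ m) (hV : Nat.card V = Nat.card K ^ m)
    (hr : ∀ r : ℕ, r.Prime → r ∣ e → r + 1 ≤ Nat.card K) (hcomm : commutator A ≤ P.C)
    (hidx : P.C.index ≤ Nat.card K)
    (htrans : ∀ a b : V, a ≠ 0 → b ≠ 0 → ∃ g : A, g • a = b)
    (hlist : Nat.card V ∈ ({9, 25, 49, 121, 529, 81} : Set ℕ)) : DL V (⊤ : Subgroup A) 4 := by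
  haveI := hsol
  set q := Nat.card K with hqdef
  have hq2 : 2 ≤ q := Finite.one_lt_card
  have hsq : ∀ r : ℕ, r.Prime → q ^ m = r ^ 2 → False := by
    intro r hr h
    obtain ⟨i, hi, hqi⟩ := (Nat.dvd_prime_pow hr).1 (show q ∣ r ^ 2 from h ▸ dvd_pow_self q (by omega))
    rw [hqi, ← pow_mul] at h
    have h2 := Nat.pow_right_injective hr.two_le h
    have hi1 : 1 ≤ i := Nat.one_le_iff_ne_zero.2 fun h0 => by rw [h0, zero_mul] at h2; omega
    have := Nat.mul_le_mul hi1 (show 3 ≤ m by omega)
    omega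
  simp only [Set.mem_insert_iff, Set.mem_singleton_iff] at hlist
  rcases hlist with h | h | h | h | h | h
  · exact (hsq 3 Nat.prime_three (by rw [← hV, h]; norm_num)).elim
  · exact (hsq 5 (by norm_num) (by rw [← hV, h]; norm_num)).elim
  · exact (hsq 7 (by norm_num) (by rw [← hV, h]; norm_num)).elim
  · exact (hsq 11 (by norm_num) (by rw [← hV, h]; norm_num)).elim
  · exact (hsq 23 (by norm_num) (by rw [← hV, h]; norm_num)).elim
  -- eighty one
  obtain ⟨i, hi, hqi⟩ := (Nat.dvd_prime_pow Nat.prime_three).1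
    (show q ∣ 3 ^ 4 from (show q ∣ Nat.card V from hV ▸ dvd_pow_self q (by omega)).trans
      (dvd_of_eq (h.trans (by norm_num))))
  have him : i * m = 4 := Nat.pow_right_injective (show 2 ≤ 3 by norm_num)
    (show 3 ^ (i * m) = 3 ^ 4 by rw [pow_mul, ← hqi, ← hV, h])
  have hi1 : 1 ≤ i := Nat.one_le_iff_ne_zero.2 fun h0 => by rw [h0, zero_mul] at him; omega
  obtain rfl : i = 1 := by
    by_contra hne
    have := Nat.mul_le_mul (show 2 ≤ i by omega) (show 3 ≤ m by omega)
    omega
  have hm4 : m = 4 := by omega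
  have he4 : e = 4 := by
    rcases (show e = 3 ∨ e = 4 by omega) with rfl | rfl
    · have := hr 3 Nat.prime_three dvd_rfl
      rw [hqi] at this
      omega
    · rfl
  subst he4
  haveI : Fact (Nat.Prime 5) := ⟨by norm_num⟩
  obtain ⟨g, hg⟩ := exists_prime_orderOf_dvd_card' (G := A) 5
    ((show 5 ∣ Nat.card V - 1 by rw [h]; norm_num).trans (card_pred_dvd htrans))
  letI := P.act
  haveI : Finite (Additive P.W) := inferInstanceAs (Finite P.W)
  have hne : ∃ x : Additive P.W, g • x ≠ x := by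
    by_contra! hfix
    have hgC : g ∈ P.C := by
      have h5 : ∀ n, 0 < n → n ≤ 3 → Nat.Coprime n 5 := fun n _ _ => by interval_cases n <;> norm_num
      have hk := h5 P.C.index (Nat.pos_of_ne_zero Subgroup.index_ne_zero_of_finite)
        (hidx.trans (by rw [hqi]; norm_num))
      have h1 : orderOf (QuotientGroup.mk' P.C g) ∣ 5 := hg ▸ orderOf_map_dvd _ g
      have h2 : orderOf (QuotientGroup.mk' P.C g) ∣ P.C.index := orderOf_dvd_natCard _
      exact (QuotientGroup.eq_one_iff g).1
        (orderOf_eq_one_iff.1 (Nat.eq_one_of_dvd_coprimes hk h2 h1))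
    have hgM : g ∈ P.M := P.mem_M_of_conj_eq_one hgC (MulEquiv.ext fun w =>
      congrArg Additive.toMul (hfix (Additive.ofMul w)))
    have hM : Nat.card P.M = 16 * Nat.card P.Z := by rw [P.card_M, he]
    have hZ : Nat.card P.Z ≤ 2 := (Nat.card_le_card_of_injective _ P.χ_injective).trans
      ((Nat.card_units K).le.trans (by rw [← hqdef, hqi]; norm_num))
    have h5 : 5 ∣ Nat.card P.M := by
      rw [← hg]
      exact (Subgroup.orderOf_mk g hgM).symm.dvd.trans (orderOf_dvd_natCard _)
    have hZpos : 0 < Nat.card P.Z := Nat.card_pos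
    rw [hM] at h5
    omega
  have hW2 := dl_sixteen hsol P.isCR_act ((Nat.card_congr Additive.toMul).trans (he.trans (by norm_num)))
    (g := g) (by rw [← hg, pow_orderOf_eq_one]) hne
  refine DL.trans (a := 2) (b := 2) ?_ (DL.trans (a := 1) (b := 1) (commutator_M_le P) (dl_Z P))
  intro k hk
  exact P.mem_M_of_conj_eq_one (der_one_le P hcomm _ (der_anti _ one_le_two hk))
    (MulEquiv.ext fun w => congrArg Additive.toMul (hW2 k hk (Additive.ofMul w)))

end

/-- Five good vectors, or small length. -/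
theorem dichotomy_primitive {A : Type u} [Group A] [Finite A] {V : Type u} [AddCommGroup V] [Finite V]
    [Nontrivial V] [DistribMulAction A V] [FaithfulSMul A V] (hsol : Group.IsSolvable A)
    (hirr : IsIrr A V)
    (hfield : ∀ Z : Subgroup A, Z.Normal → IsMulCommutative ↥Z → IsField ↥(spanRing V Z)) :
    Good A V ∨ Few A V := by
  obtain ⟨K, _, _, _, P, e, he, he1, hem, hV, -, hr, hcomm, hidx⟩ := exists_prim hsol hfield
  rcases eq_or_lt_of_le he1 with h | h
  · have hW : Nat.card P.W = 1 := by rw [he, ← h]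
    exact Or.inr ⟨(dl_prim_one P hcomm hW).mono le_rfl (by norm_num),
      fun x hx => (dl_prim_stab_one P hcomm hW hx).mono le_rfl (by norm_num),
      fun _ => (dl_prim_one P hcomm hW).mono le_rfl (by norm_num)⟩
  by_cases h64 : 64 ≤ e
  · exact Or.inl (good_of_big P hsol he hem hV hr hcomm hidx h64)
  have hL : LinB.{u} (Nat.card P.W) 6 := by
    have h63 : e ≤ 63 := by omega
    have hee : e * e ≤ 63 * 63 := Nat.mul_le_mul h63 h63
    exact linB_4095.mono (by omega) le_rfl
  refine Or.inr ⟨dl_prim P hcomm hsol hL (by norm_num),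
    fun x hx => dl_prim_stab P hcomm hsol hL (by norm_num) hx, fun htrans => ?_⟩
  by_cases he2 : e = 2
  · exact dl_prim P hcomm hsol (linB_8.mono (by rw [he, he2]; norm_num) le_rfl) (by norm_num)
  obtain ⟨p, hp, hpV⟩ := exists_nsmul_eq_zero hirr
  rcases selfCentralizing_or_exception hsol hp hpV htrans with ⟨B, hBn, hB, hBC, -⟩ | hlist
  · haveI := hBn
    haveI : Finite (AddMonoid.End V) :=
      Finite.of_injective (fun f => (f : V → V)) DFunLike.coe_injective
    letI : Field ↥(spanRing V B) := (hfield B hBn hB).toField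
    obtain ⟨c, hc⟩ := CharP.exists ↥(spanRing V B)
    haveI := Fact.mk (CharP.char_is_prime ↥(spanRing V B) c)
    have hle : der (⊤ : Subgroup A) 1 ≤ B := by
      refine le_trans ?_ hBC.le
      rw [← ker_galois (V := V) B]
      exact (commutator_def A).ge.trans (commutator_le_ker c (galois V B))
    refine (DL.trans (a := 1) (b := 1) hle (DL.of_comm fun g hg k hk x => ?_)).mono le_rfl (by norm_num)
    rw [← mul_smul, ← mul_smul]
    exact congrArg (· • x) (congrArg Subtype.val (hB.is_comm.comm ⟨g, hg⟩ ⟨k, hk⟩))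
  · exact dl_transitive_exception P hsol he (by omega) hem hV hr hcomm hidx htrans hlist

end Cfsg.Agent.StabilizerLength
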