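import Cfsg.Agent.Lib.StabilizerLength.Imprimitive
import Cfsg.Agent.Lib.StabilizerLength.Primitive

/-!
# A vector whose stabiliser has derived length at most nine

`exists_dl_nine`: every completely reducible solvable linear group has one.
-/

set_option autoImplicit false
set_option linter.style.haveILetI false

namespace Cfsg.Agent.StabilizerLength

open OddBaseTwo SolvableTransitive MulAction

universe u v

/-- Five good vectors, or small length, for every irreducible group. -/
theorem dichotomy : ∀ (n : ℕ) (A : Type u) [Group A] [Finite A] (V : Type u) [AddCommGroup V]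
    [Finite V] [DistribMulAction A V] [Nontrivial V],
    Nat.card V < n → Group.IsSolvable A → IsIrr A V → Good A V ∨ Few A V := by
  intro n
  induction n with
  | zero => intro A _ _ V _ _ _ _ h; omega
  | succ n ih =>
    intro A _ _ V _ _ _ _ hlt hsol hirr
    haveI := hsol
    letI := rangeAction A V
    suffices h : Good (MulAction.toPermHom A V).range V ∨ Few (MulAction.toPermHom A V).range V by
      rcases h with h | h
      · exact Or.inl (Good.of_surjective (MulAction.toPermHom A V).rangeRestrict_surjective
          (fun _ _ => rfl) h)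
      · exact Or.inr (Few.of_surjective (MulAction.toPermHom A V).rangeRestrict_surjective
          (fun _ _ => rfl) h)
    have hsolR : Group.IsSolvable (MulAction.toPermHom A V).range :=
      Group.isSolvable_of_surjective (MulAction.toPermHom A V).rangeRestrict_surjective
    have hirrR : IsIrr (MulAction.toPermHom A V).range V := fun U hU =>
      hirr U fun a w hw => hU ((MulAction.toPermHom A V).rangeRestrict a) w hw
    by_cases hfield : ∀ Z : Subgroup (MulAction.toPermHom A V).range, Z.Normal → IsMulCommutative ↥Z →
        IsField ↥(spanRing V Z)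
    · exact dichotomy_primitive hsolR hirrR hfield
    push Not at hfield
    obtain ⟨Z, hZn, hZ, hnot⟩ := hfield
    haveI := hZn
    obtain ⟨ι, _, _, W, hd, h2⟩ := (isField_or_decomp hirrR Z hZ).resolve_left hnot
    obtain ⟨κ, _, _, U, k₀, hd', h2', hmax⟩ := exists_coatom hd hirrR h2
    refine dichotomy_of_decomp hsolR hirrR hd' h2' hmax ?_
    letI := subAction (U k₀) (inv_block hd' k₀)
    haveI := nontrivial_block hd' k₀
    haveI := hsolR
    exact ih (stabilizer _ k₀) (U k₀)
      (lt_of_lt_of_le (card_block_lt hd' hirrR h2' k₀) (Nat.lt_succ_iff.1 hlt))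
      inferInstance (block_irr hd' hirrR k₀)

theorem exists_dl_nine_aux : ∀ (n : ℕ) (A : Type u) [Group A] [Finite A] (V : Type u) [AddCommGroup V]
    [Finite V] [DistribMulAction A V],
    Nat.card V < n → Group.IsSolvable A → IsCR A V → ∃ x : V, DL V (stabilizer A x) 9 := by
  intro n
  induction n with
  | zero => intro A _ _ V _ _ _ h; omega
  | succ n ih =>
    intro A _ _ V _ _ _ hlt hsol hcr
    rcases subsingleton_or_nontrivial V with hV | hV
    · exact ⟨0, fun g _ x => Subsingleton.elim _ _⟩
    by_cases hirr : IsIrr A V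
    · rcases dichotomy (Nat.card V + 1) A V (Nat.lt_succ_self _) hsol hirr with
        ⟨t, -, ht⟩ | ⟨h8, -, -⟩
      · exact ⟨t 0, ht 0⟩
      · exact ⟨0, h8.mono le_top (by norm_num)⟩
    unfold IsIrr at hirr
    push Not at hirr
    obtain ⟨U, hU, hU0, hUt⟩ := hirr
    obtain ⟨W, hW, h1, h2⟩ := hcr U hU
    have hWt : W ≠ ⊤ := fun h => hU0 (by rwa [h, inf_top_eq] at h1)
    obtain ⟨u, hu⟩ : letI := subAction U hU; ∃ u : U, DL U (stabilizer A u) 9 := by
      letI := subAction U hU
      exact ih A U (lt_of_lt_of_le (card_lt_of_ne_top hUt) (Nat.lt_succ_iff.1 hlt)) hsol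
        (isCR_subAction hcr hU)
    obtain ⟨w, hw⟩ : letI := subAction W hW; ∃ w : W, DL W (stabilizer A w) 9 := by
      letI := subAction W hW
      exact ih A W (lt_of_lt_of_le (card_lt_of_ne_top hWt) (Nat.lt_succ_iff.1 hlt)) hsol
        (isCR_subAction hcr hW)
    have hsplit : ∀ g ∈ stabilizer A ((u : V) + w), g • (u : V) = u ∧ g • (w : V) = w := fun g hg => by
      have h : g • ((u : V) + w) = (u : V) + w := hg
      rw [smul_add] at h
      exact decomp_unique h1 (hU g _ u.2) (hW g _ w.2) u.2 w.2 h
    refine ⟨(u : V) + w, DL.of_complement hU hW h2 ?_ ?_⟩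
    · letI := subAction U hU
      exact hu.mono (fun g hg => mem_stabilizer_iff.2 (Subtype.ext (hsplit g hg).1)) le_rfl
    · letI := subAction W hW
      exact hw.mono (fun g hg => mem_stabilizer_iff.2 (Subtype.ext (hsplit g hg).2)) le_rfl

/-- A solvable completely reducible group fixes no more than length nine at some vector. -/
theorem exists_dl_nine {A : Type u} [Group A] [Finite A] {V : Type v} [AddCommGroup V] [Finite V]
    [DistribMulAction A V] [FaithfulSMul A V] (hsol : Group.IsSolvable A) (hcr : IsCR A V) :
    ∃ x : V, derivedSeries ↥(stabilizer A x) 9 = ⊥ := by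
  haveI := hsol
  letI := rangeAction A V
  have hinv : ∀ U : AddSubgroup V, IsInv (MulAction.toPermHom A V).range V U ↔ IsInv A V U :=
    fun U => ⟨fun h a => h ((MulAction.toPermHom A V).rangeRestrict a), fun h r => by
      obtain ⟨_, a, rfl⟩ := r
      exact h a⟩
  obtain ⟨x, hx⟩ := exists_dl_nine_aux.{v} (Nat.card V + 1) (MulAction.toPermHom A V).range V
    (Nat.lt_succ_self _)
    (Group.isSolvable_of_surjective (MulAction.toPermHom A V).rangeRestrict_surjective)
    (fun U hU => by
      obtain ⟨W, hW, h⟩ := hcr U ((hinv U).1 hU)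
      exact ⟨W, (hinv W).2 hW, h⟩)
  refine ⟨x, DL.derivedSeries_eq_bot (V := V) ?_⟩
  refine DL.of_hom (MulAction.toPermHom A V).rangeRestrict id Function.injective_id (fun _ _ => rfl) ?_
  rw [map_stabilizer (MulAction.toPermHom A V).rangeRestrict_surjective (fun _ _ => rfl)]
  exact hx

end Cfsg.Agent.StabilizerLength
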