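import Cfsg.Agent.Lib.OddBaseTwo.Main
import Mathlib.NumberTheory.Divisors

/-!
# Bounds for odd order

* `sum_sub_one_le_of_bound`: the sum of `n - 1` over factors with bounded product.
* `cbar_pfree`, `cbar_quarter`: bounds on the group induced on the section.
* `section_bound`, `odd_count`: the arithmetic.
-/

set_option autoImplicit false
set_option linter.style.haveILetI false
set_option linter.unusedSectionVars false

namespace Cfsg.Agent.StabilizerLength

open OddBaseTwo MulAction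

universe u v w

theorem sum_sub_one_le_of_bound {ι : Type u} (s : Finset ι) (n : ι → ℕ) {B P : ℕ}
    (h1 : ∀ i ∈ s, 1 ≤ n i) (hB : ∀ i ∈ s, n i ≤ B) (hP : ∏ i ∈ s, n i ≤ P) :
    (∑ i ∈ s, (n i - 1)) * B ≤ B * B + P := by
  classical
  suffices h : ∀ t ⊆ s, ∑ i ∈ t, (n i - 1) + 1 ≤ ∏ i ∈ t, n i ∧
      ((∏ i ∈ t, n i) ≤ B ∨ (∑ i ∈ t, (n i - 1) + 2) * B ≤ B * B + ∏ i ∈ t, n i) by
    obtain ⟨h2, h3⟩ := h s subset_rfl
    rcases h3 with h3 | h3
    · calc (∑ i ∈ s, (n i - 1)) * B ≤ B * B := Nat.mul_le_mul_right _ (by omega)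
        _ ≤ B * B + P := Nat.le_add_right _ _
    · calc (∑ i ∈ s, (n i - 1)) * B ≤ (∑ i ∈ s, (n i - 1) + 2) * B := Nat.mul_le_mul_right _ (by omega)
        _ ≤ B * B + ∏ i ∈ s, n i := h3
        _ ≤ B * B + P := by omega
  intro t ht
  induction t using Finset.induction_on with
  | empty =>
    refine ⟨by simp, ?_⟩
    rcases Nat.eq_zero_or_pos B with h | h
    · exact Or.inr (by simp [h])
    · exact Or.inl (by rw [Finset.prod_empty]; omega)
  | insert a t ha ih =>
    obtain ⟨i1, i2⟩ := ih ((Finset.subset_insert _ _).trans ht)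
    have hn := h1 a (ht (Finset.mem_insert_self a t))
    have hnB := hB a (ht (Finset.mem_insert_self a t))
    rw [Finset.sum_insert ha, Finset.prod_insert ha]
    obtain ⟨x, hx⟩ := Nat.exists_eq_add_of_le' hn
    rw [hx] at hnB ⊢
    rw [Nat.add_sub_cancel]
    set S := ∑ i ∈ t, (n i - 1)
    set T := ∏ i ∈ t, n i
    refine ⟨by nlinarith, ?_⟩
    rcases le_or_gt ((x + 1) * T) B with h | h
    · exact Or.inl h
    right
    rcases le_or_gt T B with h' | h'
    · have h3 : (x + S + 2) * B ≤ (x + T + 1) * B := Nat.mul_le_mul_right _ (by omega)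
      refine h3.trans ?_
      obtain ⟨y, hy⟩ := Nat.exists_eq_add_of_le h'
      obtain ⟨z, hz⟩ := Nat.exists_eq_add_of_le hnB
      nlinarith [Nat.zero_le (y * z)]
    · have h4 := i2.resolve_left (by omega)
      nlinarith [Nat.mul_le_mul_left x h'.le]

section

variable {A : Type u} [Group A] {K : Type w} [Field K] {V : Type v} [AddCommGroup V] [Module K V]
  [DistribMulAction A V] (P : PrimData A K V)
variable [Finite A] [FaithfulSMul A V]

theorem cbar_pfree {p n : ℕ} [hp : Fact p.Prime] (hW : Nat.card P.W = p ^ n) {s k : ℕ}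
    (hs : Nat.card P.Cbar ∣ s * p ^ k) (hdiv : ∀ d, d ∣ s → d % p = 1 → d = 1) (hps : ¬ p ∣ s) :
    Nat.card P.Cbar ∣ s := by
  obtain ⟨S⟩ : Nonempty (Sylow p P.Cbar) := inferInstance
  have h2 := card_sylow_modEq_one p P.Cbar
  have hn : Nat.card (Sylow p P.Cbar) = 1 := by
    have h1 : Nat.card (Sylow p P.Cbar) ∣ s * p ^ k :=
      (Sylow.card_dvd_index S).trans ((Subgroup.index_dvd_card _).trans hs)
    have h3 : ¬ p ∣ Nat.card (Sylow p P.Cbar) := fun hd => by
      rw [Nat.ModEq, Nat.mod_eq_zero_of_dvd hd, Nat.one_mod_eq_one.2 hp.out.ne_one] at h2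
      omega
    refine hdiv _ ((Nat.Coprime.pow_right _ (Nat.coprime_comm.1
      ((Nat.Prime.coprime_iff_not_dvd hp.out).2 h3))).dvd_of_dvd_mul_right h1) ?_
    rw [Nat.ModEq, Nat.one_mod_eq_one.2 hp.out.ne_one] at h2
    exact h2
  haveI : Subsingleton (Sylow p P.Cbar) := Finite.card_le_one_iff_subsingleton.1 hn.le
  haveI hSn : (S : Subgroup P.Cbar).Normal := Sylow.normal_of_subsingleton S
  have hNbot : (S : Subgroup P.Cbar).map P.Cbar.subtype = ⊥ := P.eq_bot_of_isPGroup (p := p) hW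
    ((Subgroup.map_subtype_le _).trans P.cbar_le_range) (fun a s hs => by
      obtain ⟨t, ht, rfl⟩ := hs
      let τ : P.Cbar →* P.Cbar :=
        { toFun := fun t => ⟨P.conj a * t.1 * (P.conj a)⁻¹, P.cbar_normalized a t.2⟩
          map_one' := Subtype.ext (by simp)
          map_mul' := fun x y => Subtype.ext (by simp [mul_assoc]) }
      have hle : (S : Subgroup P.Cbar).map τ ≤ (S : Subgroup P.Cbar) := by
        obtain ⟨Q, hQ⟩ := (S.2.map τ).exists_le_sylow
        rwa [Subsingleton.elim Q S] at hQ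
      exact ⟨τ t, hle ⟨t, ht, rfl⟩, rfl⟩)
    (S.2.map _)
  have hpc : ¬ p ∣ Nat.card P.Cbar := fun hd => by
    have := S.dvd_card_of_dvd_card hd
    rw [Nat.card_congr ((S : Subgroup P.Cbar).equivMapOfInjective _ P.Cbar.subtype_injective).toEquiv,
      Subgroup.card_eq_one.2 hNbot] at this
    exact hp.out.ne_one (Nat.dvd_one.1 this)
  exact (Nat.Coprime.pow_right _ (Nat.coprime_comm.1
    ((Nat.Prime.coprime_iff_not_dvd hp.out).2 hpc))).dvd_of_dvd_mul_right hs

theorem cbar_quarter (hodd : Odd (Nat.card A)) (hsol : Group.IsSolvable A) {p n : ℕ}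
    [hp : Fact p.Prime] (hW : Nat.card P.W = p ^ n) (hn : 1 ≤ n) :
    4 * Nat.card P.Cbar ≤ Nat.card P.W * p ^ (n - 1) + Nat.card P.W + 4 := by
  classical
  letI := P.act
  haveI : Finite (Additive P.W) := inferInstanceAs (Finite P.W)
  obtain ⟨a, b, hab⟩ := OddBaseTwo.hasBase hsol hodd P.isCR_act
  have hWodd : Odd (Nat.card (Additive P.W)) := (Nat.card_congr Additive.toMul).symm ▸ P.odd_card_W hodd
  have hfix2 : ∀ z : Additive P.W, z = -z → z = 0 := fun z h => by
    have h2 : 2 • z = 0 := by rw [two_nsmul]; nth_rewrite 2 [h]; exact add_neg_cancel z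
    exact AddMonoid.addOrderOf_eq_one_iff.1 (Nat.eq_one_of_dvd_coprimes
      (Nat.coprime_two_left.2 hWodd) (addOrderOf_dvd_of_nsmul_eq_zero h2) (addOrderOf_dvd_natCard z))
  by_cases hab0 : a = 0 ∧ b = 0
  · obtain ⟨rfl, rfl⟩ := hab0
    have hbot : P.Cbar = ⊥ := (Subgroup.eq_bot_iff_forall _).2 fun s hs => by
      obtain ⟨g, hg, rfl⟩ := hs
      exact MulEquiv.ext fun w =>
        congrArg Additive.toMul (hab g (smul_zero g) (smul_zero g) (Additive.ofMul w))
    rw [hbot, Subgroup.card_bot]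
    omega
  set c := P.form a.toMul b.toMul with hc
  let T : Type u := {x : P.W × P.W // P.form x.1 x.2 = c ∧ x ≠ (1, 1)}
  have hform : ∀ s : P.Cbar, ∀ x y : P.W, P.form (s.1 x) (s.1 y) = P.form x y := by
    rintro ⟨_, g, hg, rfl⟩ x y
    exact P.form_conj hg x y
  have hinv : ∀ x y : P.W, P.form x⁻¹ y⁻¹ = P.form x y := fun x y => by
    rw [map_inv P.form, MonoidHom.inv_apply, map_inv, inv_inv]
  have hJ : ∀ x y : P.W, P.form y x⁻¹ = P.form x y := fun x y => by
    rw [map_inv]
    exact inv_eq_of_mul_eq_one_right (pairing_skew P.form P.halt y x)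
  have hne : ∀ s : P.Cbar, ¬ (s.1 a.toMul = 1 ∧ s.1 b.toMul = 1) := fun s ⟨h1, h2⟩ => hab0
    ⟨congrArg Additive.ofMul (s.1.injective (h1.trans (map_one _).symm)),
      congrArg Additive.ofMul (s.1.injective (h2.trans (map_one _).symm))⟩
  let J : P.W × P.W → P.W × P.W := fun x => (x.2, x.1⁻¹)
  have hJc : ∀ x : P.W × P.W, (P.form x.1 x.2 = c ∧ x ≠ (1, 1)) →
      (P.form (J x).1 (J x).2 = c ∧ J x ≠ (1, 1)) := by
    rintro ⟨x, y⟩ ⟨h1, h2⟩
    refine ⟨(hJ x y).trans h1, fun h => h2 ?_⟩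
    simp only [J, Prod.mk.injEq, inv_eq_one] at h
    rw [h.1, h.2]
  let F : P.Cbar → T := fun s => ⟨(s.1 a.toMul, s.1 b.toMul),
    (hform s _ _).trans rfl, fun h => hne s ⟨congrArg Prod.fst h, congrArg Prod.snd h⟩⟩
  let Jt : T → T := fun x => ⟨J x.1, hJc x.1 x.2⟩
  have hJJJJ : ∀ x, J (J (J (J x))) = x := fun x => by simp [J]
  have hFinj : Function.Injective F := by
    rintro ⟨_, g, hg, rfl⟩ ⟨_, g', hg', rfl⟩ h
    have h1 : P.conj g a.toMul = P.conj g' a.toMul := congrArg (fun x : T => x.1.1) h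
    have h2 : P.conj g b.toMul = P.conj g' b.toMul := congrArg (fun x : T => x.1.2) h
    have hk : ∀ z : Additive P.W, P.conj g z.toMul = P.conj g' z.toMul → (g'⁻¹ * g) • z = z := fun z hz => by
      show Additive.ofMul (P.conj (g'⁻¹ * g) z.toMul) = z
      rw [map_mul, MulAut.mul_apply, hz, ← MulAut.mul_apply, ← map_mul, inv_mul_cancel, map_one]
      rfl
    refine Subtype.ext (MulEquiv.ext fun w => ?_)
    have h4 : P.conj (g'⁻¹ * g) w = w :=
      congrArg Additive.toMul (hab _ (hk a h1) (hk b h2) (Additive.ofMul w))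
    rw [map_mul, MulAut.mul_apply, map_inv, MulAut.inv_def, MulEquiv.symm_apply_eq] at h4
    exact h4
  -- no element is a nontrivial power of the quarter turn on the orbit
  have key : ∀ s t : P.Cbar, ∀ i, i < 4 → (J^[i]) (F t).1 = (F s).1 → i = 0 := by
    rintro ⟨_, g, hg, rfl⟩ ⟨_, g', hg', rfl⟩ i hi h
    by_contra hi0
    set k := g⁻¹ * g' with hk
    have hst : ∀ z : Additive P.W, P.conj k z.toMul = ((P.conj g)⁻¹ (P.conj g' z.toMul)) := fun z => by
      rw [hk, map_mul, map_inv]; rfl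
    have hga : ∀ z : P.W, (P.conj g)⁻¹ (P.conj g z) = z := fun z => MulEquiv.symm_apply_apply _ z
    have hgi : ∀ z : P.W, (P.conj g)⁻¹ ((P.conj g' z)⁻¹) = (P.conj k z)⁻¹ := fun z => by
      rw [map_inv, hk, map_mul, map_inv]; rfl
    -- the square of the quarter turn negates
    have hsq : k • a = -a ∧ k • b = -b → False := by
      rintro ⟨e1, e2⟩
      have h3 : ∀ z : Additive P.W, k • z = -z → z = 0 := fun z hz =>
        hfix2 z ((smul_eq_of_sq hodd (show k • k • z = z by rw [hz, smul_neg, hz, neg_neg])).symm.trans hz)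
      exact hab0 ⟨h3 a e1, h3 b e2⟩
    have hswap : k • a = b ∧ k • b = -a → False := by
      rintro ⟨e1, e2⟩
      have h3 : (k * k) • a = -a := by rw [mul_smul, e1, e2]
      have h4 : (k * k) • b = -b := by rw [mul_smul, e2, smul_neg, e1]
      have hodd2 : ∀ z : Additive P.W, (k * k) • z = -z → z = 0 := fun z hz =>
        hfix2 z ((smul_eq_of_sq hodd (show (k * k) • (k * k) • z = z by
          rw [hz, smul_neg, hz, neg_neg])).symm.trans hz)
      exact hab0 ⟨hodd2 a h3, hodd2 b h4⟩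
    have hswap' : k • b = a ∧ k • a = -b → False := by
      rintro ⟨e1, e2⟩
      have h3 : (k * k) • a = -a := by rw [mul_smul, e2, smul_neg, e1]
      have h4 : (k * k) • b = -b := by rw [mul_smul, e1, e2]
      have hodd2 : ∀ z : Additive P.W, (k * k) • z = -z → z = 0 := fun z hz =>
        hfix2 z ((smul_eq_of_sq hodd (show (k * k) • (k * k) • z = z by
          rw [hz, smul_neg, hz, neg_neg])).symm.trans hz)
      exact hab0 ⟨hodd2 a h3, hodd2 b h4⟩
    have hto : ∀ x y : Additive P.W, P.conj g' x.toMul = P.conj g y.toMul → k • x = y := fun x y h => by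
      show Additive.ofMul (P.conj k x.toMul) = y
      rw [hst, h, hga]; rfl
    have hton : ∀ x y : Additive P.W, (P.conj g' x.toMul)⁻¹ = P.conj g y.toMul → k • x = -y :=
      fun x y h => hto x (-y) (by rw [toMul_neg, map_inv, ← h, inv_inv])
    simp only [F] at h
    interval_cases i
    · exact hi0 rfl
    · simp only [Function.iterate_one, J, Prod.mk.injEq] at h
      exact hswap' ⟨hto b a h.1, hton a b h.2⟩
    · simp only [Function.iterate_succ, Function.iterate_zero, Function.comp_apply, id, J,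
        Prod.mk.injEq] at h
      exact hsq ⟨hton a a h.1, hton b b h.2⟩
    · simp only [Function.iterate_succ, Function.iterate_zero, Function.comp_apply, id, J,
        Prod.mk.injEq, inv_inv] at h
      exact hswap ⟨hto a b h.2, hton b a h.1⟩
  let G : Fin 4 × P.Cbar → T := fun x => Jt^[(x.1 : ℕ)] (F x.2)
  have hval : ∀ (i : ℕ) (x : T), (Jt^[i] x).1 = J^[i] x.1 := fun i => by
    induction i with
    | zero => exact fun x => rfl
    | succ i ih => exact fun x => (ih (Jt x)).trans rfl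
  have hG : Function.Injective G := by
    rintro ⟨i, s⟩ ⟨j, t⟩ h
    have h' : J^[(i : ℕ)] (F s).1 = J^[(j : ℕ)] (F t).1 := by rw [← hval, ← hval]; exact congrArg Subtype.val h
    have hi := i.2
    have hj := j.2
    have hJinj : Function.Injective J := fun x y h => by
      rw [← hJJJJ x, h, hJJJJ]
    rcases le_total (i : ℕ) (j : ℕ) with hle | hle
    · obtain ⟨d, hd⟩ := Nat.exists_eq_add_of_le hle
      rw [hd, Function.iterate_add_apply] at h'
      have h2 := key s t d (by omega) ((hJinj.iterate _) h').symm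
      subst h2
      have hij : i = j := Fin.ext (by omega)
      subst hij
      rw [Function.iterate_zero] at h'
      rw [show s = t from hFinj (Subtype.ext ((hJinj.iterate _) h'))]
    · obtain ⟨d, hd⟩ := Nat.exists_eq_add_of_le hle
      rw [hd, Function.iterate_add_apply] at h'
      have h2 := key t s d (by omega) ((hJinj.iterate _) h')
      subst h2
      have hij : i = j := Fin.ext (by omega)
      subst hij
      rw [Function.iterate_zero] at h'
      rw [show s = t from hFinj (Subtype.ext ((hJinj.iterate _) h'))]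
  have h1 := Nat.card_le_card_of_injective G hG
  rw [Nat.card_prod, Nat.card_fin] at h1
  refine h1.trans ?_
  -- the pairs with one value of the form
  have hker : ∀ x : P.W, x ≠ 1 → Nat.card {y : P.W // P.form x y = c} ≤ p ^ (n - 1) := fun x hx => by
    rcases isEmpty_or_nonempty {y : P.W // P.form x y = c} with he | ⟨⟨y₀, hy₀⟩⟩
    · simp
    refine (Nat.card_le_card_of_injective (fun y => (⟨y₀⁻¹ * y.1, ?_⟩ : (P.form x).ker))
      fun y z h => Subtype.ext (mul_left_cancel (congrArg Subtype.val h))).trans ?_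
    · rw [MonoidHom.mem_ker, map_mul, map_inv, y.2, hy₀, inv_mul_cancel]
    obtain ⟨i, hi, hi'⟩ := (Nat.dvd_prime_pow hp.out).1
      (show Nat.card (P.form x).ker ∣ p ^ n from hW ▸ Subgroup.card_subgroup_dvd_card _)
    rw [hi']
    refine Nat.pow_le_pow_right hp.out.pos ?_
    by_contra hlt
    have htop : (P.form x).ker = ⊤ := Subgroup.eq_top_of_card_eq _ (by
      rw [hi', hW, show i = n by omega])
    exact hx (P.nondeg x fun y => MonoidHom.mem_ker.1 (htop ▸ Subgroup.mem_top y))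
  haveI := Fintype.ofFinite P.W
  let emb : T → ((x : {x : P.W // x ≠ 1}) × {y : P.W // P.form x.1 y = c}) ⊕ P.W := fun z =>
    if h : z.1.1 = 1 then Sum.inr z.1.2 else Sum.inl ⟨⟨z.1.1, h⟩, ⟨z.1.2, z.2.1⟩⟩
  have hemb : Function.Injective emb := by
    intro z z' h
    simp only [emb] at h
    split_ifs at h with h1 h2 h3
    · exact Subtype.ext (Prod.ext (h1.trans h2.symm) (Sum.inr_injective h))
    · have h4 := congrArg (fun s : (x : {x : P.W // x ≠ 1}) × {y : P.W // P.form x.1 y = c} =>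
        ((s.1 : P.W), (s.2 : P.W))) (Sum.inl_injective h)
      exact Subtype.ext h4
  refine (Nat.card_le_card_of_injective emb hemb).trans ?_
  rw [Nat.card_sum, Nat.card_sigma]
  have h5 : ∑ x : {x : P.W // x ≠ 1}, Nat.card {y : P.W // P.form x.1 y = c} ≤
      Nat.card P.W * p ^ (n - 1) := by
    refine (Finset.sum_le_card_nsmul _ _ _ fun x _ => hker x.1 x.2).trans ?_
    rw [smul_eq_mul, Finset.card_univ, ← Nat.card_eq_fintype_card]
    exact Nat.mul_le_mul_right _ (Nat.card_le_card_of_injective _ Subtype.val_injective)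
  omega

end

/-! ### Arithmetic -/

theorem cube_gap : ∀ m, 9 ≤ m → 50 * m ^ 3 ≤ 7 ^ (m - m / 3) := by
  intro m
  induction m using Nat.strong_induction_on with
  | _ m ih =>
  intro hm
  by_cases h : m < 12
  · interval_cases m <;> norm_num
  obtain ⟨j, rfl⟩ := Nat.exists_eq_add_of_le' (show 3 ≤ m by omega)
  have h1 := ih j (by omega) (by omega)
  have h2 : (j + 3) ^ 3 ≤ 49 * j ^ 3 := by
    have h3 : (j + 3) ^ 3 ≤ (2 * j) ^ 3 := Nat.pow_le_pow_left (by omega) 3
    rw [mul_pow] at h3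
    norm_num at h3
    omega
  rw [show j + 3 - (j + 3) / 3 = j - j / 3 + 1 + 1 by omega, pow_succ 7, pow_succ 7]
  omega

theorem odd_count_three {q m : ℕ} (hq : 7 ≤ q) (hm : 3 ≤ m) :
    8 * (m * q ^ (m / 3)) + 1 < q ^ m := by
  have key : ∀ m, 3 ≤ m → 9 * m ≤ 7 ^ (m - m / 3) := by
    intro m
    induction m using Nat.strong_induction_on with
    | _ m ih =>
    intro hm
    by_cases h : m < 6
    · interval_cases m <;> norm_num
    obtain ⟨j, rfl⟩ := Nat.exists_eq_add_of_le' (show 3 ≤ m by omega)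
    have h1 := ih j (by omega) (by omega)
    rw [show j + 3 - (j + 3) / 3 = j - j / 3 + 1 + 1 by omega, pow_succ 7, pow_succ 7]
    omega
  have h1 : 9 * m * q ^ (m / 3) ≤ q ^ (m - m / 3) * q ^ (m / 3) :=
    Nat.mul_le_mul_right _ ((key m hm).trans (Nat.pow_le_pow_left hq _))
  rw [← pow_add, Nat.sub_add_cancel (Nat.div_le_self m 3)] at h1
  have h2 : 2 ≤ m * q ^ (m / 3) := le_trans (by omega) (Nat.le_mul_of_pos_right m (by positivity))
  rw [mul_assoc] at h1
  omega

theorem odd_count {q m e X : ℕ} (he : 5 ≤ e) (hem : e ≤ m) (hq : 7 ≤ q) (hq11 : m ≤ 8 → 11 ≤ q)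
    (hX : 25 * X ≤ 24 * q ^ (m - 2 * m / 3)) (hX8 : m ≤ 8 → 10 * X ≤ 8 * q ^ (m - 2 * m / 3)) :
    (e * e - 1) * (m * q ^ (m / 3)) + X * (q ^ (2 * m / 3) + q ^ (m - 2 * m / 3)) + 1 < q ^ m := by
  set D := 2 * m / 3 with hD
  set c := m - D with hc
  have hQ : q ^ D * q ^ c = q ^ m := by rw [← pow_add]; congr 1; omega
  have hfirst : 50 * ((e * e - 1) * (m * q ^ (m / 3))) ≤ q ^ m := by
    have h1 : 50 * m ^ 3 ≤ q ^ (m - m / 3) := by
      by_cases h9 : 9 ≤ m
      · exact (cube_gap m h9).trans (Nat.pow_le_pow_left hq _)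
      · refine le_trans ?_ (Nat.pow_le_pow_left (hq11 (by omega)) _)
        have : 5 ≤ m := by omega
        interval_cases m <;> norm_num
    calc 50 * ((e * e - 1) * (m * q ^ (m / 3))) ≤ 50 * ((m * m) * (m * q ^ (m / 3))) :=
          Nat.mul_le_mul_left _ (Nat.mul_le_mul_right _ (le_trans (Nat.sub_le _ _) (Nat.mul_le_mul hem hem)))
      _ = 50 * m ^ 3 * q ^ (m / 3) := by ring
      _ ≤ q ^ (m - m / 3) * q ^ (m / 3) := Nat.mul_le_mul_right _ h1
      _ = q ^ m := by rw [← pow_add, Nat.sub_add_cancel (Nat.div_le_self m 3)]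
  have hbig : 7 ^ 5 ≤ q ^ m :=
    le_trans (Nat.pow_le_pow_left hq 5) (Nat.pow_le_pow_right (by omega) (by omega))
  by_cases h9 : 9 ≤ m
  · have h2 : 49 * q ^ c ≤ q ^ D := by
      calc 49 * q ^ c ≤ q ^ 2 * q ^ c := Nat.mul_le_mul_right _ (le_trans (by norm_num)
            (Nat.pow_le_pow_left hq 2))
        _ = q ^ (2 + c) := (pow_add _ _ _).symm
        _ ≤ q ^ D := Nat.pow_le_pow_right (by omega) (by omega)
    have h3 : 49 * (X * (q ^ D + q ^ c)) ≤ 48 * q ^ m := by
      calc 49 * (X * (q ^ D + q ^ c)) = X * (49 * q ^ D + 49 * q ^ c) := by ring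
        _ ≤ X * (49 * q ^ D + q ^ D) := by gcongr
        _ = 2 * (25 * X) * q ^ D := by ring
        _ ≤ 2 * (24 * q ^ c) * q ^ D := by gcongr
        _ = 48 * (q ^ D * q ^ c) := by ring
        _ = 48 * q ^ m := by rw [hQ]
    omega
  · have h11 := hq11 (by omega)
    have h2 : 11 * q ^ c ≤ q ^ D := by
      calc 11 * q ^ c ≤ q ^ 1 * q ^ c := Nat.mul_le_mul_right _ (by simpa using h11)
        _ = q ^ (1 + c) := (pow_add _ _ _).symm
        _ ≤ q ^ D := Nat.pow_le_pow_right (by omega) (by omega)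
    have h8 := hX8 (by omega)
    have h3 : 55 * (X * (q ^ D + q ^ c)) ≤ 48 * q ^ m := by
      calc 55 * (X * (q ^ D + q ^ c)) = 5 * (X * (11 * q ^ D + 11 * q ^ c)) := by ring
        _ ≤ 5 * (X * (11 * q ^ D + q ^ D)) := by gcongr
        _ = 6 * (10 * X) * q ^ D := by ring
        _ ≤ 6 * (8 * q ^ c) * q ^ D := by gcongr
        _ = 48 * (q ^ D * q ^ c) := by ring
        _ = 48 * q ^ m := by rw [hQ]
    omega

end Cfsg.Agent.StabilizerLength
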