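import Cfsg.Agent.Lib.StabilizerLength.Main
import Cfsg.Agent.Lib.StabilizerLength.OddBounds

/-!
# Odd order: a vector with abelian stabiliser

`exists_abelian_stabilizer`: for a completely reducible solvable group of odd order on a module of
odd order.
-/

set_option autoImplicit false
set_option linter.style.haveILetI false
set_option linter.unusedSectionVars false

namespace Cfsg.Agent.StabilizerLength

open OddBaseTwo SolvableTransitive MulAction

universe u v

theorem gap_six : ∀ e, 31 ≤ e → 25 * e ^ 6 ≤ 48 * 7 ^ (e - 2 * e / 3) := by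
  intro e
  induction e using Nat.strong_induction_on with
  | _ e ih =>
  intro he
  by_cases h : e < 34
  · interval_cases e <;> norm_num
  obtain ⟨j, rfl⟩ := Nat.exists_eq_add_of_le' (show 3 ≤ e by omega)
  have h1 := ih j (by omega) (by omega)
  have h2 : (j + 3) ^ 6 ≤ 7 * j ^ 6 := by
    have h3 : (10 * (j + 3)) ^ 6 ≤ (11 * j) ^ 6 := Nat.pow_le_pow_left (by omega) 6
    rw [mul_pow, mul_pow] at h3
    norm_num at h3
    omega
  rw [show j + 3 - 2 * (j + 3) / 3 = j - 2 * j / 3 + 1 by omega, pow_succ 7]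
  omega

/-- A lower bound for the field from a prime of the section. -/
theorem field_ge {q r : ℕ} (hodd : Odd q) (hq : 2 ≤ q) (hr : r.Prime) (hr2 : r ≠ 2)
    (h : r ∣ q - 1) : 2 * r + 1 ≤ q := by
  obtain ⟨j, rfl⟩ := hodd
  rw [Nat.add_sub_cancel] at h
  have h2 : r ∣ j := (Nat.Coprime.dvd_mul_left ((Nat.coprime_primes hr Nat.prime_two).2 hr2)).1 h
  have := Nat.le_of_dvd (by omega) h2
  omega

section

variable {A : Type u} [Group A] [Finite A] {K : Type u} [Field K] [Finite K] {V : Type u}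
  [AddCommGroup V] [Module K V] [DistribMulAction A V] [FaithfulSMul A V] [Finite V]
  (P : PrimData A K V)

theorem coset_sum_le [Fintype ↥P.Z] {m D : ℕ} (hm : Nat.card V = Nat.card K ^ m) (hD : D ≤ m)
    (hD2 : m ≤ 2 * D) {g : A} (hg : g ∈ P.C)
    (hb : ∀ z : ↥P.Z, Nat.card (fixSub (V := V) (g * (z : A))) ≤ Nat.card K ^ D) :
    ∑ z : ↥P.Z, (Nat.card (fixSub (V := V) (g * (z : A))) - 1) ≤
      Nat.card K ^ D + Nat.card K ^ (m - D) := by
  have h := sum_sub_one_le_of_bound (Finset.univ : Finset ↥P.Z)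
    (fun z => Nat.card (fixSub (V := V) (g * (z : A)))) (B := Nat.card K ^ D) (P := Nat.card K ^ m)
    (fun _ _ => Nat.card_pos) (fun z _ => hb z) (hm ▸ P.prod_fix_le hg)
  have h2 : Nat.card K ^ m = Nat.card K ^ (m - D) * Nat.card K ^ D := by
    rw [← pow_add, Nat.sub_add_cancel hD]
  rw [h2, ← add_mul] at h
  exact Nat.le_of_mul_le_mul_right h (Nat.pow_pos Nat.card_pos)

theorem coset_sum_le_M (hodd : Odd (Nat.card A)) [Fintype ↥P.Z] {m : ℕ}
    (hm : Nat.card V = Nat.card K ^ m) {g : A} (hg : g ∈ P.M) (hgZ : g ∉ P.Z) :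
    ∑ z : ↥P.Z, (Nat.card (fixSub (V := V) (g * (z : A))) - 1) ≤ m * Nat.card K ^ (m / 3) := by
  classical
  have hgC : g ∈ P.C := P.good.le_centralizer hg
  choose d hd using fun z : ↥P.Z =>
    P.exists_card_fix_eq (P.C.mul_mem hgC (P.good.le_centralizer (P.good.le z.2)))
  let S := Finset.univ.filter fun z : ↥P.Z => d z ≠ 0
  have hS : S.card ≤ m := by
    have h1 : ∑ z, d z ≤ m := by
      have h2 := P.prod_fix_le hgC
      rw [Finset.prod_congr rfl fun z _ => hd z, Finset.prod_pow_eq_pow_sum, hm] at h2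
      exact (Nat.pow_le_pow_iff_right Finite.one_lt_card).1 h2
    refine le_trans ?_ h1
    calc S.card = ∑ _z ∈ S, 1 := (Finset.card_eq_sum_ones S)
      _ ≤ ∑ z ∈ S, d z := Finset.sum_le_sum fun z hz =>
          Nat.one_le_iff_ne_zero.2 (Finset.mem_filter.1 hz).2
      _ ≤ ∑ z, d z := Finset.sum_le_sum_of_subset (Finset.filter_subset _ _)
  rw [← Finset.sum_subset (Finset.subset_univ S) fun z _ hz => by
    rw [hd, show d z = 0 by simpa [S] using hz]; simp]
  refine (Finset.sum_le_card_nsmul _ _ (Nat.card K ^ (m / 3)) fun z _ => ?_).trans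
    (by rw [smul_eq_mul]; exact Nat.mul_le_mul_right _ hS)
  refine (Nat.sub_le _ _).trans ?_
  have h := P.fixed_cube_le_M hodd (P.M.mul_mem hg (P.good.le z.2)) fun h => hgZ (by
    simpa using P.Z.mul_mem h (inv_mem z.2))
  rw [hd, hm, ← pow_mul] at h
  have := (Nat.pow_le_pow_iff_right Finite.one_lt_card).1 h
  rw [hd]
  exact Nat.pow_le_pow_right Nat.card_pos (by omega)

/-- Sums over a union of cosets of the scalars. -/
theorem sum_cosets (S : Finset A) (f : A → ℕ) [Fintype ↥P.Z] (hS : ∀ g ∈ S, ∀ z : ↥P.Z, g * (z : A) ∈ S)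
    {B N : ℕ} (hB : ∀ g ∈ S, ∑ z : ↥P.Z, f (g * (z : A)) ≤ B) (hN : S.card ≤ N * Nat.card P.Z) :
    ∑ g ∈ S, f g ≤ N * B := by
  classical
  have h1 : ∀ z : ↥P.Z, ∑ g ∈ S, f (g * (z : A)) = ∑ g ∈ S, f g := by
    intro z
    refine Finset.sum_nbij' (fun g => g * (z : A)) (fun g => g * (z : A)⁻¹) (fun g hg => hS g hg z)
      (fun g hg => by simpa using hS g hg z⁻¹) (fun g _ => by simp) (fun g _ => by simp) (fun g _ => rfl)
  have h2 : Nat.card P.Z * ∑ g ∈ S, f g = ∑ g ∈ S, ∑ z : ↥P.Z, f (g * (z : A)) := by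
    rw [Finset.sum_comm, Finset.sum_congr rfl fun z _ => h1 z, Finset.sum_const, Finset.card_univ,
      smul_eq_mul, Nat.card_eq_fintype_card]
  refine Nat.le_of_mul_le_mul_left ?_ (Nat.card_pos (α := P.Z))
  rw [h2]
  refine (Finset.sum_le_card_nsmul _ _ B hB).trans ?_
  rw [smul_eq_mul]
  calc S.card * B ≤ N * Nat.card P.Z * B := Nat.mul_le_mul_right _ hN
    _ = Nat.card P.Z * (N * B) := by ring

theorem outer_bound [Nontrivial V] (hodd : Odd (Nat.card A)) (hsol : Group.IsSolvable A) {e m : ℕ}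
    (he : Nat.card P.W = e * e) (he5 : 5 ≤ e) (heodd : Odd e) (hem : e ≤ m)
    (hqodd : Odd (Nat.card K)) (hdvd : ∀ r : ℕ, r.Prime → r ∣ e → r ∣ Nat.card K - 1) :
    7 ≤ Nat.card K ∧ (m ≤ 8 → 11 ≤ Nat.card K) ∧
      25 * ((Nat.card P.Cbar - 1) * (e * e)) ≤ 24 * Nat.card K ^ (m - 2 * m / 3) ∧
      (m ≤ 8 → 10 * ((Nat.card P.Cbar - 1) * (e * e)) ≤ 8 * Nat.card K ^ (m - 2 * m / 3)) := by
  set q := Nat.card K with hqdef
  set N := Nat.card P.Cbar with hN
  have hq2 : 2 ≤ q := Finite.one_lt_card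
  have hodd2 : ∀ r, r ∣ e → r ≠ 2 := fun r hr h =>
    Nat.not_even_iff_odd.2 heodd (even_iff_two_dvd.2 (h ▸ hr))
  have hge : ∀ r : ℕ, r.Prime → r ∣ e → 2 * r + 1 ≤ q := fun r hr hre =>
    field_ge hqodd hq2 hr (hodd2 r hre) (hdvd r hr hre)
  have hq7 : 7 ≤ q := by
    obtain ⟨r, hr, hre⟩ := Nat.exists_prime_and_dvd (show e ≠ 1 by omega)
    have := hge r hr hre
    have := hr.two_le
    have := hodd2 r hre
    omega
  refine ⟨hq7, ?_⟩
  -- the exponent grows with the dimension
  have hmono : ∀ (Q c : ℕ), Q ≤ q → c ≤ e - 2 * e / 3 → Q ^ c ≤ q ^ (m - 2 * m / 3) :=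
    fun Q c hQ hc => (Nat.pow_le_pow_left hQ c).trans (Nat.pow_le_pow_right (by omega) (by omega))
  have hNpos : 0 < N := Nat.card_pos
  obtain ⟨j, rfl⟩ := heodd
  by_cases h5 : 2 * j + 1 = 5
  · haveI : Fact (Nat.Prime 5) := ⟨by norm_num⟩
    have hW : Nat.card P.W = 5 ^ 2 := by rw [he, h5]; norm_num
    have hc : N ≤ 3 := Nat.le_of_dvd (by norm_num) (cbar_pfree P hW (s := 3) (k := 1)
      (P.cbar_dvd hodd hW (k := 5) (by simp [Fin.prod_univ_two]))
      (fun d hd _ => by
        rcases (Nat.dvd_prime Nat.prime_three).1 hd with h | h <;> omega) (by norm_num))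
    have hq11 : 11 ≤ q := hge 5 (by norm_num) (by rw [h5])
    have hpow := hmono 11 2 hq11 (by omega)
    have : (N - 1) * ((2 * j + 1) * (2 * j + 1)) ≤ 50 := by
      rw [h5]; omega
    refine ⟨fun _ => hq11, ?_, fun _ => ?_⟩ <;> omega
  by_cases h7 : 2 * j + 1 = 7
  · haveI : Fact (Nat.Prime 7) := ⟨by norm_num⟩
    have hW : Nat.card P.W = 7 ^ 2 := by rw [he, h7]; norm_num
    have hc : N ≤ 9 := Nat.le_of_dvd (by norm_num) (cbar_pfree P hW (s := 9) (k := 1)
      (P.cbar_dvd hodd hW (k := 5) (by simp [Fin.prod_univ_two]))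
      (fun d hd h1 => by
        have := Nat.le_of_dvd (by norm_num) hd
        interval_cases d <;> first | rfl | omega | norm_num at *) (by norm_num))
    have hq15 : 15 ≤ q := hge 7 (by norm_num) (by rw [h7])
    have hpow := hmono 15 3 hq15 (by omega)
    have : (N - 1) * ((2 * j + 1) * (2 * j + 1)) ≤ 392 := by
      rw [h7]; omega
    refine ⟨fun _ => by omega, ?_, fun _ => ?_⟩ <;> omega
  refine ⟨fun h => by omega, ?_, fun h => by omega⟩
  by_cases h9 : 2 * j + 1 = 9
  · have hc : N ≤ 5 := P.cbar_nine hodd (by rw [he, h9])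
    have hpow := hmono 7 3 hq7 (by omega)
    have : (N - 1) * ((2 * j + 1) * (2 * j + 1)) ≤ 324 := by rw [h9]; omega
    omega
  by_cases h11 : 2 * j + 1 = 11
  · haveI : Fact (Nat.Prime 11) := ⟨by norm_num⟩
    have hc : N ≤ 825 := Nat.le_of_dvd (by norm_num) (P.cbar_dvd hodd (p := 11) (n := 2)
      (by rw [he, h11]; norm_num) (k := 4) (by simp [Fin.prod_univ_two]))
    have hpow := hmono 23 4 (hge 11 (by norm_num) (by rw [h11])) (by omega)
    have : (N - 1) * ((2 * j + 1) * (2 * j + 1)) ≤ 99704 := by rw [h11]; omega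
    omega
  -- three dividing the field minus one
  have h3q : 3 ∣ 2 * j + 1 → q % 3 = 1 := fun h => by
    obtain ⟨i, hi⟩ := hdvd 3 Nat.prime_three h
    omega
  by_cases h27 : 2 * j + 1 = 27 ∧ q < 13
  · haveI : Fact (Nat.Prime 3) := ⟨Nat.prime_three⟩
    have hc := cbar_quarter P hodd hsol (p := 3) (n := 6) (by rw [he, h27.1]; norm_num) (by norm_num)
    rw [he, h27.1] at hc
    norm_num at hc
    have hpow := hmono 7 9 hq7 (by omega)
    have : (N - 1) * ((2 * j + 1) * (2 * j + 1)) ≤ 44469 * 729 := by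
      rw [h27.1]; exact Nat.mul_le_mul (by omega) le_rfl
    omega
  set e := 2 * j + 1 with hedef
  have hsix : 2 * ((N - 1) * (e * e)) ≤ e ^ 6 := by
    have hb : letI := P.act; HasBase A (Additive P.W) := by
      letI := P.act
      haveI : Finite (Additive P.W) := inferInstanceAs (Finite P.W)
      exact OddBaseTwo.hasBase hsol hodd P.isCR_act
    have h4 : 2 * N ≤ e * e * (e * e) := by
      rcases P.two_mul_card_Cbar_le hodd hb with h | h
      · rw [he] at h
        have h2 : 2 * (e * e) ≤ e * e * (e * e) := Nat.mul_le_mul_right _ (by nlinarith)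
        omega
      · rwa [he] at h
    calc 2 * ((N - 1) * (e * e)) ≤ 2 * N * (e * e) := by
          rw [← mul_assoc]; exact Nat.mul_le_mul_right _ (by omega)
      _ ≤ e * e * (e * e) * (e * e) := Nat.mul_le_mul_right _ h4
      _ = e ^ 6 := by ring
  suffices h : 25 * e ^ 6 ≤ 48 * q ^ (m - 2 * m / 3) by omega
  by_cases h31 : 31 ≤ e
  · exact (gap_six e h31).trans (Nat.mul_le_mul_left _ (hmono 7 _ hq7 le_rfl))
  obtain ⟨Q, hQ, hQe⟩ : ∃ Q, Q ≤ q ∧ 25 * e ^ 6 ≤ 48 * Q ^ (e - 2 * e / 3) := by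
    have he13 : 13 ≤ e := by omega
    rcases (show e = 13 ∨ e = 15 ∨ e = 17 ∨ e = 19 ∨ e = 21 ∨ e = 23 ∨ e = 25 ∨ e = 27 ∨ e = 29 by omega)
      with h | h | h | h | h | h | h | h | h
    · exact ⟨27, hge 13 (by norm_num) (by rw [h]), by rw [h]; norm_num⟩
    · refine ⟨31, ?_, by rw [h]; norm_num⟩
      have h1 := h3q (by rw [h]; norm_num)
      have h2 := hge 5 (by norm_num) (by rw [h]; norm_num)
      obtain ⟨i, hi⟩ := hdvd 5 (by norm_num) (by rw [h]; norm_num)
      obtain ⟨i', hi'⟩ := hqodd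
      omega
    · exact ⟨35, hge 17 (by norm_num) (by rw [h]), by rw [h]; norm_num⟩
    · exact ⟨39, hge 19 (by norm_num) (by rw [h]), by rw [h]; norm_num⟩
    · exact ⟨15, hge 7 (by norm_num) (by rw [h]; norm_num), by rw [h]; norm_num⟩
    · exact ⟨47, hge 23 (by norm_num) (by rw [h]), by rw [h]; norm_num⟩
    · exact ⟨11, hge 5 (by norm_num) (by rw [h]; norm_num), by rw [h]; norm_num⟩
    · exact ⟨13, by have := not_and.1 h27 h; omega, by rw [h]; norm_num⟩
    · exact ⟨59, hge 29 (by norm_num) (by rw [h]), by rw [h]; norm_num⟩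
  exact hQe.trans (Nat.mul_le_mul_left _ (hmono Q _ hQ le_rfl))

/-- A vector moved by everything in the centraliser outside the scalars. -/
theorem exists_moved [Nontrivial V] (hodd : Odd (Nat.card A)) (hsol : Group.IsSolvable A) {e m : ℕ}
    (he : Nat.card P.W = e * e) (he1 : 2 ≤ e) (hem : e ≤ m) (hV : Nat.card V = Nat.card K ^ m)
    (hqodd : Odd (Nat.card K)) :
    ∃ x : V, x ≠ 0 ∧ ∀ g ∈ P.C, g ∉ P.Z → g • x ≠ x := by
  classical
  haveI := Fintype.ofFinite A
  haveI := Fintype.ofFinite V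
  haveI := Fintype.ofFinite ↥P.Z
  set q := Nat.card K with hqdef
  have hdvd : ∀ r : ℕ, r.Prime → r ∣ e → r ∣ q - 1 := fun r hr hre =>
    P.dvd_W hr (he ▸ dvd_mul_of_dvd_left hre e)
  have heodd : Odd e := (P.odd_card_W hodd).of_dvd_nat ⟨e, he⟩
  by_contra! hall
  let f : A → ℕ := fun g => Nat.card (fixSub (V := V) g) - 1
  let S : Finset A := Finset.univ.filter fun g => g ∈ P.C ∧ g ∉ P.Z
  let S₁ := S.filter fun g => g ∈ P.M
  let S₂ := S.filter fun g => g ∉ P.M
  have hcover : Nat.card V - 1 ≤ ∑ g ∈ S, f g := by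
    have h1 : (Finset.univ.erase (0 : V)) ⊆
        S.biUnion fun g => (Finset.univ.filter fun x : V => g • x = x).erase 0 := fun x hx => by
      obtain ⟨g, hg, hgZ, hgx⟩ := hall x (Finset.mem_erase.1 hx).1
      exact Finset.mem_biUnion.2 ⟨g, by simp [S, hg, hgZ], by simp [hgx, (Finset.mem_erase.1 hx).1]⟩
    have h2 := (Finset.card_le_card h1).trans Finset.card_biUnion_le
    rw [Finset.card_erase_of_mem (Finset.mem_univ _), Finset.card_univ, ← Nat.card_eq_fintype_card] at h2
    refine h2.trans (le_of_eq (Finset.sum_congr rfl fun g _ => ?_))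
    rw [Finset.card_erase_of_mem (by simp)]
    show _ = Nat.card (fixSub (V := V) g) - 1
    congr 1
    exact ((Nat.card_eq_fintype_card).trans (Fintype.card_subtype _)).symm
  have hmul : ∀ g ∈ S, ∀ z : ↥P.Z, g * (z : A) ∈ S := fun g hg z => by
    obtain ⟨h1, h2⟩ := (Finset.mem_filter.1 hg).2
    refine Finset.mem_filter.2 ⟨Finset.mem_univ _,
      P.C.mul_mem h1 (P.good.le_centralizer (P.good.le z.2)), fun h => h2 ?_⟩
    simpa using P.Z.mul_mem h (inv_mem z.2)
  have hsum1 : ∑ g ∈ S₁, f g ≤ (e * e - 1) * (m * q ^ (m / 3)) := by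
    refine sum_cosets P S₁ f (fun g hg z => ?_) (fun g hg => ?_) ?_
    · rw [Finset.mem_filter] at hg ⊢
      exact ⟨hmul g hg.1 z, P.M.mul_mem hg.2 (P.good.le z.2)⟩
    · obtain ⟨h1, h2⟩ := Finset.mem_filter.1 hg
      exact coset_sum_le_M P hodd hV h2 (Finset.mem_filter.1 h1).2.2
    · have h1 : S₁.card + (Finset.univ.filter (· ∈ P.Z)).card ≤ (Finset.univ.filter (· ∈ P.M)).card := by
        rw [← Finset.card_union_of_disjoint]
        · refine Finset.card_le_card fun g hg => ?_
          simp only [Finset.mem_union, S₁, S, Finset.mem_filter, Finset.mem_univ, true_and] at hg ⊢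
          rcases hg with hg | hg
          · exact hg.2
          · exact P.good.le hg
        · rw [Finset.disjoint_left]
          intro g hg hg'
          simp only [S₁, S, Finset.mem_filter, Finset.mem_univ, true_and] at hg hg'
          exact hg.1.2 hg'
      rw [← Fintype.card_subtype, ← Fintype.card_subtype, ← Nat.card_eq_fintype_card,
        ← Nat.card_eq_fintype_card] at h1
      have h2 : Nat.card P.M = e * e * Nat.card P.Z := by rw [P.card_M, he]
      change S₁.card + Nat.card P.Z ≤ Nat.card P.M at h1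
      rw [Nat.sub_mul, one_mul]
      omega
  have hsplit : ∑ g ∈ S, f g = ∑ g ∈ S₁, f g + ∑ g ∈ S₂, f g :=
    (Finset.sum_filter_add_sum_filter_not S (fun g => g ∈ P.M) f).symm
  have hVq : Nat.card V = q ^ m := hV
  have he3 : 3 ≤ e := by obtain ⟨j, rfl⟩ := heodd; omega
  by_cases h3 : e = 3
  · subst h3
    have hCM := P.cbar_three hodd (he.trans (by norm_num))
    have hS2 : S₂ = ∅ := Finset.filter_eq_empty_iff.2 fun g hg => not_not.2 (hCM (Finset.mem_filter.1 hg).2.1)
    rw [hS2, Finset.sum_empty, add_zero] at hsplit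
    have hq7 : 7 ≤ q := field_ge hqodd Finite.one_lt_card Nat.prime_three (by norm_num)
      (hdvd 3 Nat.prime_three dvd_rfl)
    have h := odd_count_three hq7 hem
    omega
  have he5 : 5 ≤ e := by obtain ⟨j, rfl⟩ := heodd; omega
  obtain ⟨hq7, hq11, hX, hX8⟩ := outer_bound P hodd hsol he he5 heodd hem hqodd hdvd
  have hsum2 : ∑ g ∈ S₂, f g ≤
      (Nat.card P.Cbar - 1) * (e * e) * (q ^ (2 * m / 3) + q ^ (m - 2 * m / 3)) := by
    refine sum_cosets P S₂ f (fun g hg z => ?_) (fun g hg => ?_) ?_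
    · rw [Finset.mem_filter] at hg ⊢
      refine ⟨hmul g hg.1 z, fun h => hg.2 ?_⟩
      simpa using P.M.mul_mem h (P.good.le (inv_mem z.2))
    · obtain ⟨h1, h2⟩ := Finset.mem_filter.1 hg
      obtain ⟨hgC, hgZ⟩ := (Finset.mem_filter.1 h1).2
      refine coset_sum_le P hV (by omega) (by omega) hgC fun z => ?_
      obtain ⟨hzC, hzZ⟩ := (Finset.mem_filter.1 (hmul g h1 z)).2
      obtain ⟨d, hd⟩ := P.exists_card_fix_eq hzC
      have h := P.fixed_cube_le (V := V) hodd hzC hzZ
      rw [hd, hV, ← pow_mul, ← pow_mul] at h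
      have := (Nat.pow_le_pow_iff_right Finite.one_lt_card).1 h
      rw [hd]
      exact Nat.pow_le_pow_right Nat.card_pos (by omega)
    · have h1 : S₂.card + (Finset.univ.filter (· ∈ P.M)).card ≤ (Finset.univ.filter (· ∈ P.C)).card := by
        rw [← Finset.card_union_of_disjoint]
        · refine Finset.card_le_card fun g hg => ?_
          simp only [Finset.mem_union, S₂, S, Finset.mem_filter, Finset.mem_univ, true_and] at hg ⊢
          rcases hg with hg | hg
          · exact hg.1.1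
          · exact P.good.le_centralizer hg
        · rw [Finset.disjoint_left]
          intro g hg hg'
          simp only [S₂, S, Finset.mem_filter, Finset.mem_univ, true_and] at hg hg'
          exact hg.2 hg'
      rw [← Fintype.card_subtype, ← Fintype.card_subtype, ← Nat.card_eq_fintype_card,
        ← Nat.card_eq_fintype_card] at h1
      have h2 : Nat.card P.M = e * e * Nat.card P.Z := by rw [P.card_M, he]
      have h3 : Nat.card P.C = Nat.card P.Cbar * (e * e * Nat.card P.Z) := by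
        rw [← he]
        exact SolvClassBound.card_C P
      change S₂.card + Nat.card P.M ≤ Nat.card P.C at h1
      rw [mul_assoc, Nat.sub_mul, one_mul]
      omega
  have h := odd_count (X := (Nat.card P.Cbar - 1) * (e * e)) he5 hem hq7 hq11 hX hX8
  have h' : (e * e - 1) * (m * q ^ (m / 3)) +
      (Nat.card P.Cbar - 1) * (e * e) * (q ^ (2 * m / 3) + q ^ (m - 2 * m / 3)) + 1 < q ^ m := by
    simp only [hqdef] at h ⊢; omega
  generalize hA1 : (e * e - 1) * (m * q ^ (m / 3)) = A1 at hsum1 h'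
  generalize hA2 : (Nat.card P.Cbar - 1) * (e * e) * (q ^ (2 * m / 3) + q ^ (m - 2 * m / 3)) = A2 at hsum2 h'
  generalize hA3 : q ^ m = A3 at hVq h'
  rw [hsplit] at hcover
  omega

theorem abelian_stab_primitive [Nontrivial V] (hodd : Odd (Nat.card A)) (hsol : Group.IsSolvable A)
    {e m : ℕ} (he : Nat.card P.W = e * e) (he1 : 1 ≤ e) (hem : e ≤ m)
    (hV : Nat.card V = Nat.card K ^ m) (hVodd : Odd (Nat.card V)) (hcomm : commutator A ≤ P.C) :
    ∃ x : V, DL V (stabilizer A x) 1 := by
  rcases eq_or_lt_of_le he1 with h | h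
  · obtain ⟨x, hx⟩ := exists_ne (0 : V)
    exact ⟨x, dl_prim_stab_one P hcomm (by rw [he, ← h]) hx⟩
  have hqodd : Odd (Nat.card K) := hVodd.of_dvd_nat (hV ▸ dvd_pow_self _ (by omega))
  obtain ⟨x, hx0, hx⟩ := exists_moved P hodd hsol he h hem hV hqodd
  refine ⟨x, fun g hg y => ?_⟩
  have hgC : g ∈ P.C := der_one_le P hcomm _ hg
  have hgx : g • x = x := mem_stabilizer_iff.1 (der_le _ _ hg)
  by_cases hgZ : g ∈ P.Z
  · rw [eq_one_of_fix P hgZ hx0 hgx, one_smul]
  · exact absurd hgx (hx g hgC hgZ)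

end

theorem exists_abelian_aux : ∀ (n : ℕ) (A : Type u) [Group A] [Finite A] (V : Type u) [AddCommGroup V]
    [Finite V] [DistribMulAction A V],
    Nat.card V < n → Odd (Nat.card V) → Odd (Nat.card A) → Group.IsSolvable A → IsCR A V →
      ∃ x : V, DL V (stabilizer A x) 1 := by
  intro n
  induction n with
  | zero => intro A _ _ V _ _ _ h; omega
  | succ n ih =>
    intro A _ _ V _ _ _ hlt hVodd hodd hsol hcr
    classical
    haveI := hsol
    rcases subsingleton_or_nontrivial V with hV | hV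
    · exact ⟨0, fun g _ x => Subsingleton.elim _ _⟩
    have hsubodd : ∀ U : AddSubgroup V, Odd (Nat.card U) := fun U =>
      hVodd.of_dvd_nat (AddSubgroup.card_addSubgroup_dvd_card U)
    by_cases hirr : IsIrr A V
    swap
    · unfold IsIrr at hirr
      push Not at hirr
      obtain ⟨U, hU, hU0, hUt⟩ := hirr
      obtain ⟨W, hW, h1, h2⟩ := hcr U hU
      have hWt : W ≠ ⊤ := fun h => hU0 (by rwa [h, inf_top_eq] at h1)
      obtain ⟨u, hu⟩ : letI := subAction U hU; ∃ u : U, DL U (stabilizer A u) 1 := by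
        letI := subAction U hU
        exact ih A U (lt_of_lt_of_le (card_lt_of_ne_top hUt) (Nat.lt_succ_iff.1 hlt)) (hsubodd U) hodd
          hsol (isCR_subAction hcr hU)
      obtain ⟨w, hw⟩ : letI := subAction W hW; ∃ w : W, DL W (stabilizer A w) 1 := by
        letI := subAction W hW
        exact ih A W (lt_of_lt_of_le (card_lt_of_ne_top hWt) (Nat.lt_succ_iff.1 hlt)) (hsubodd W) hodd
          hsol (isCR_subAction hcr hW)
      have hsplit : ∀ g ∈ stabilizer A ((u : V) + w), g • (u : V) = u ∧ g • (w : V) = w := fun g hg => by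
        have h : g • ((u : V) + w) = (u : V) + w := hg
        rw [smul_add] at h
        exact decomp_unique h1 (hU g _ u.2) (hW g _ w.2) u.2 w.2 h
      refine ⟨(u : V) + w, DL.of_complement hU hW h2 ?_ ?_⟩
      · letI := subAction U hU
        exact hu.mono (fun g hg => mem_stabilizer_iff.2 (Subtype.ext (hsplit g hg).1)) le_rfl
      · letI := subAction W hW
        exact hw.mono (fun g hg => mem_stabilizer_iff.2 (Subtype.ext (hsplit g hg).2)) le_rfl
    letI := rangeAction A V
    suffices h : ∃ x : V, DL V (stabilizer (MulAction.toPermHom A V).range x) 1 by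
      obtain ⟨x, hx⟩ := h
      refine ⟨x, DL.of_hom (MulAction.toPermHom A V).rangeRestrict id Function.injective_id
        (fun _ _ => rfl) ?_⟩
      rw [map_stabilizer (MulAction.toPermHom A V).rangeRestrict_surjective (fun _ _ => rfl)]
      exact hx
    have hsolR : Group.IsSolvable (MulAction.toPermHom A V).range :=
      Group.isSolvable_of_surjective (MulAction.toPermHom A V).rangeRestrict_surjective
    have hoddR : Odd (Nat.card (MulAction.toPermHom A V).range) := odd_card_range hodd _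
    have hirrR : IsIrr (MulAction.toPermHom A V).range V := fun U hU =>
      hirr U fun a w hw => hU ((MulAction.toPermHom A V).rangeRestrict a) w hw
    by_cases hfield : ∀ Z : Subgroup (MulAction.toPermHom A V).range, Z.Normal → IsMulCommutative ↥Z →
        IsField ↥(spanRing V Z)
    · obtain ⟨K, _, _, _, P, e, he, he1, hem, hcard, -, -, hcomm, -⟩ := exists_prim hsolR hfield
      exact abelian_stab_primitive P hoddR hsolR he he1 hem hcard hVodd hcomm
    push Not at hfield
    obtain ⟨Z, hZn, hZ, hnot⟩ := hfield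
    haveI := hZn
    obtain ⟨ι, _, _, W, hd, h2⟩ := (isField_or_decomp hirrR Z hZ).resolve_left hnot
    obtain ⟨i₀⟩ : Nonempty ι := Fintype.card_pos_iff.1 (by omega)
    letI := subAction (W i₀) (inv_block hd i₀)
    haveI := nontrivial_block hd i₀
    haveI := hsolR
    obtain ⟨x, hx⟩ := ih (stabilizer _ i₀) (W i₀)
      (lt_of_lt_of_le (card_block_lt hd hirrR h2 i₀) (Nat.lt_succ_iff.1 hlt)) (hsubodd _)
      (odd_card_subgroup hoddR _) inferInstance (block_irr hd hirrR i₀).isCR
    obtain ⟨w, hw0, hw⟩ : ∃ w : W i₀, w ≠ 0 ∧ DL (W i₀) (stabilizer (stabilizer _ i₀) w) 1 := by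
      by_cases hx0 : x = 0
      · obtain ⟨w, hw⟩ := exists_ne (0 : W i₀)
        exact ⟨w, hw, hx.mono (fun g _ => mem_stabilizer_iff.2 (by rw [hx0, smul_zero])) le_rfl⟩
      · exact ⟨x, hx0, hx⟩
    have hneg : ∀ g : stabilizer (MulAction.toPermHom A V).range i₀, g • w ≠ -w := by
      intro g hg
      have h1 : g • w = w := smul_eq_of_sq (odd_card_subgroup hoddR _)
        (show g • g • w = w by rw [hg, smul_neg, hg, neg_neg])
      rw [h1] at hg
      refine hw0 ?_
      have h2 : 2 • w = 0 := by rw [two_nsmul]; nth_rewrite 2 [hg]; exact add_neg_cancel w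
      exact AddMonoid.addOrderOf_eq_one_iff.1 (Nat.eq_one_of_dvd_coprimes
        (Nat.coprime_two_left.2 (hsubodd (W i₀))) (addOrderOf_dvd_of_nsmul_eq_zero h2)
        (addOrderOf_dvd_natCard w))
    let t : Bool → W i₀ := fun b => if b then w else -w
    have ht : ∀ a b (g : stabilizer (MulAction.toPermHom A V).range i₀), g • t a = t b → a = b := by
      intro a b g h
      rcases a with _ | _ <;> rcases b with _ | _ <;> simp [t] at h ⊢
      · refine hneg g⁻¹ ?_
        rw [inv_smul_eq_iff, smul_neg]; exact h.symm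
      · exact hneg g h
    have htdl : ∀ b, DL (W i₀) (stabilizer (stabilizer _ i₀) (t b)) 1 := fun b =>
      hw.mono (fun g hg => by
        rcases b with _ | _ <;> simpa [t] using hg) le_rfl
    choose rep hrep using exists_rep hd hirrR i₀
    obtain ⟨T, hT⟩ := exists_subset (OddBaseTwo.baseBelow (Nat.card V)) hsolR hoddR
      (card_index_lt hd hirrR i₀)
    let f : ι → Bool := fun i => decide (i ∈ T)
    refine ⟨∑ i, rep i • (t (f i) : V), dl_sum hd rep hrep t f (a := 0) (b := 1)
      (fun g hg => mem_stabilizer_iff.1 hg) (fun g hg i => hT g (fun j hj => ?_) i) fun i => htdl _⟩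
    have h := colour_eq_of_smul hd rep hrep t ht f f (mem_stabilizer_iff.1 hg) j
    simpa [f, hj] using h

/-- A vector with abelian stabiliser. -/
theorem exists_abelian_stabilizer {A : Type u} [Group A] [Finite A] {V : Type v} [AddCommGroup V]
    [Finite V] [DistribMulAction A V] [FaithfulSMul A V] (hsol : Group.IsSolvable A)
    (hodd : Odd (Nat.card A)) (hVodd : Odd (Nat.card V)) (hcr : IsCR A V) :
    ∃ x : V, IsMulCommutative ↥(stabilizer A x) := by
  haveI := hsol
  letI := rangeAction A V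
  have hinv : ∀ U : AddSubgroup V, IsInv (MulAction.toPermHom A V).range V U ↔ IsInv A V U :=
    fun U => ⟨fun h a => h ((MulAction.toPermHom A V).rangeRestrict a), fun h r => by
      obtain ⟨_, a, rfl⟩ := r
      exact h a⟩
  obtain ⟨x, hx⟩ := exists_abelian_aux.{v} (Nat.card V + 1) (MulAction.toPermHom A V).range V
    (Nat.lt_succ_self _) hVodd (odd_card_range hodd _)
    (Group.isSolvable_of_surjective (MulAction.toPermHom A V).rangeRestrict_surjective)
    (fun U hU => by
      obtain ⟨W, hW, h⟩ := hcr U ((hinv U).1 hU)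
      exact ⟨W, (hinv W).2 hW, h⟩)
  have hA : DL V (stabilizer A x) 1 := by
    refine DL.of_hom (MulAction.toPermHom A V).rangeRestrict id Function.injective_id (fun _ _ => rfl) ?_
    rw [map_stabilizer (MulAction.toPermHom A V).rangeRestrict_surjective (fun _ _ => rfl)]
    exact hx
  have h := DL.derivedSeries_eq_bot hA
  rw [derivedSeries_one] at h
  refine ⟨x, ⟨⟨fun a b => ?_⟩⟩⟩
  rw [← commutatorElement_eq_one_iff_mul_comm, ← Subgroup.mem_bot, ← h, commutator_def]
  exact Subgroup.commutator_mem_commutator (Subgroup.mem_top a) (Subgroup.mem_top b)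

end Cfsg.Agent.StabilizerLength
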