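import Cfsg.Agent.Lib.StabilizerLength.Decomp
import Cfsg.Agent.Lib.SolvClassBound.Prim

/-!
# Primitive linear groups through their section

* `exists_prim`: the data, with the numerical facts.
* `dl_prim`, `dl_prim_stab`: lengths from the length on the section.
-/

set_option autoImplicit false
set_option linter.style.haveILetI false
set_option linter.unusedSectionVars false

namespace Cfsg.Agent.StabilizerLength

open OddBaseTwo SolvableTransitive MulAction
open scoped commutatorElement

universe u v w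

/-- The data of a primitive solvable linear group. -/
theorem exists_prim {A : Type u} [Group A] [Finite A] {V : Type u} [AddCommGroup V] [Finite V]
    [Nontrivial V] [DistribMulAction A V] [FaithfulSMul A V] (hsol : Group.IsSolvable A)
    (hfield : ∀ Z : Subgroup A, Z.Normal → IsMulCommutative ↥Z → IsField ↥(spanRing V Z)) :
    ∃ (K : Type u) (_ : Field K) (_ : Finite K) (_ : Module K V) (P : PrimData A K V) (e : ℕ),
      Nat.card P.W = e * e ∧ 1 ≤ e ∧ e ≤ Module.finrank K V ∧
      Nat.card V = Nat.card K ^ Module.finrank K V ∧ 2 ≤ Nat.card K ∧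
      (∀ r : ℕ, r.Prime → r ∣ e → r + 1 ≤ Nat.card K) ∧
      commutator A ≤ P.C ∧ P.C.index ≤ Nat.card K := by
  classical
  obtain ⟨Z, hZn, hZ, hmax⟩ := exists_maximal_abelian_normal (G := A)
  haveI := hZn
  letI : Field ↥(spanRing V Z) := (hfield Z hZn hZ).toField
  haveI : Finite (AddMonoid.End V) :=
    Finite.of_injective (fun f => (f : V → V)) DFunLike.coe_injective
  haveI : Module.Finite ↥(spanRing V Z) V := Module.Finite.of_finite
  have hlin : ∀ g ∈ Subgroup.centralizer (Z : Set A), ∀ (c : ↥(spanRing V Z)) (x : V),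
      g • c • x = c • g • x :=
    fun g hg c x => DFunLike.congr_fun (spanRing_commute hg c.2) x
  let χ : ↥Z →* (↥(spanRing V Z))ˣ :=
    MonoidHom.toHomUnits (((toEnd V).comp Z.subtype).codRestrict (spanRing V Z)
      fun a => toEnd_mem_spanRing a.2)
  have hχ : ∀ (a : ↥Z) (x : V),
      (a : A) • x = ((χ a : (↥(spanRing V Z))ˣ) : ↥(spanRing V Z)) • x := fun a x => rfl
  obtain ⟨M, hM, hcent⟩ := exists_goodSection hsol hZ hmax
  let P : PrimData A ↥(spanRing V Z) V := ⟨Z, M, χ, hZn, hχ, hlin, hM, hcent⟩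
  obtain ⟨e, he⟩ := P.isSquare_W
  obtain ⟨p, hpc⟩ := CharP.exists ↥(spanRing V Z)
  haveI := Fact.mk (CharP.char_is_prime ↥(spanRing V Z) p)
  haveI := Fintype.ofFinite ↥(spanRing V Z)
  obtain ⟨f, hp, hf⟩ := FiniteField.card ↥(spanRing V Z) p
  rw [← Nat.card_eq_fintype_card] at hf
  refine ⟨↥(spanRing V Z), inferInstance, inferInstance, inferInstance, P, e, he, ?_,
    Nat.mul_self_le_mul_self_iff.1 (he ▸ P.card_W_le), Module.natCard_eq_pow_finrank,
    Finite.one_lt_card, fun r hr hre => ?_, ?_, ?_⟩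
  · rcases Nat.eq_zero_or_pos e with h | h
    · rw [h] at he
      exact absurd he Nat.card_pos.ne'
    · exact h
  · have h := P.dvd_W hr (he ▸ dvd_mul_of_dvd_left hre e)
    have h2 : 2 ≤ Nat.card ↥(spanRing V Z) := Finite.one_lt_card
    have := Nat.le_of_dvd (by omega) h
    omega
  · show commutator A ≤ Subgroup.centralizer (Z : Set A)
    rw [← ker_galois (V := V) Z]
    exact commutator_le_ker p (galois V Z)
  · show (Subgroup.centralizer (Z : Set A)).index ≤ _
    rw [← ker_galois (V := V) Z, hf]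
    exact (Nat.le_of_dvd f.pos (index_dvd_of_ker p hf (galois V Z))).trans
      (Nat.lt_pow_self hp.one_lt).le

variable {A : Type u} [Group A] [Finite A] {K : Type u} [Field K] [Finite K] {V : Type u}
  [AddCommGroup V] [Module K V] [DistribMulAction A V] [FaithfulSMul A V] [Finite V]
  (P : PrimData A K V)

theorem commutator_M_le : ⁅P.M, P.M⁆ ≤ P.Z :=
  Subgroup.commutator_le.2 fun x hx y hy => P.good.comm x hx y hy

theorem dl_Z : DL V P.Z 1 := DL.of_comm fun g hg k hk x => by
  rw [← mul_smul, ← mul_smul, P.commute_Z hk (P.good.le_centralizer (P.good.le hg))]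

theorem der_one_le (hcomm : commutator A ≤ P.C) (X : Subgroup A) : der X 1 ≤ P.C :=
  (Subgroup.commutator_mono le_top le_top).trans hcomm

theorem der_le_M (hcomm : commutator A ≤ P.C) (hsol : Group.IsSolvable A) {k : ℕ}
    (hL : LinB.{u} (Nat.card P.W) k) (hk : 1 ≤ k) (X : Subgroup A) : der X k ≤ P.M := by
  letI := P.act
  haveI : Finite (Additive P.W) := inferInstanceAs (Finite P.W)
  intro g hg
  refine P.mem_M_of_conj_eq_one (der_one_le P hcomm X (der_anti X hk hg)) (MulEquiv.ext fun w => ?_)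
  exact congrArg Additive.toMul
    (hL A (Additive P.W) (Nat.card_congr Additive.toMul).le hsol P.isCR_act g
      (der_mono le_top k hg) (Additive.ofMul w))

theorem C_le_Z_of_card (hW : Nat.card P.W = 1) : P.C ≤ P.Z := by
  haveI := (Nat.card_eq_one_iff_unique.1 hW).1
  intro g hg
  have hM : g ∈ P.M := P.mem_M_of_conj_eq_one hg (MulEquiv.ext fun w => Subsingleton.elim _ _)
  have h : (QuotientGroup.mk (⟨g, hM⟩ : ↥P.M) : P.W) = 1 := Subsingleton.elim _ _
  exact Subgroup.mem_subgroupOf.1 ((QuotientGroup.eq_one_iff _).1 h)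

theorem dl_prim (hcomm : commutator A ≤ P.C) (hsol : Group.IsSolvable A) {k : ℕ}
    (hL : LinB.{u} (Nat.card P.W) k) (hk : 1 ≤ k) : DL V (⊤ : Subgroup A) (k + 2) := by
  refine DL.trans (der_le_M P hcomm hsol hL hk ⊤) (DL.trans (a := 1) (b := 1) ?_ (dl_Z P))
  exact commutator_M_le P

theorem dl_prim_one (hcomm : commutator A ≤ P.C) (hW : Nat.card P.W = 1) :
    DL V (⊤ : Subgroup A) 2 :=
  DL.trans (a := 1) (b := 1) ((der_one_le P hcomm ⊤).trans (C_le_Z_of_card P hW)) (dl_Z P)

theorem eq_one_of_fix {g : A} (hg : g ∈ P.Z) {x : V} (hx0 : x ≠ 0) (hx : g • x = x) : g = 1 := by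
  by_contra h
  exact hx0 (P.fix_Z (z := ⟨g, hg⟩) (fun h' => h (congrArg Subtype.val h')) hx)

theorem dl_prim_stab_one (hcomm : commutator A ≤ P.C) (hW : Nat.card P.W = 1) {x : V} (hx : x ≠ 0) :
    DL V (stabilizer A x) 1 := fun g hg y => by
  rw [eq_one_of_fix P (C_le_Z_of_card P hW (der_one_le P hcomm _ hg)) hx
    (mem_stabilizer_iff.1 (der_le _ _ hg)), one_smul]

theorem dl_prim_stab (hcomm : commutator A ≤ P.C) (hsol : Group.IsSolvable A) {k : ℕ}
    (hL : LinB.{u} (Nat.card P.W) k) (hk : 1 ≤ k) {x : V} (hx : x ≠ 0) :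
    DL V (stabilizer A x) (k + 1) := by
  refine DL.trans (le_inf (der_le_M P hcomm hsol hL hk _) (der_le _ _)) ?_
  intro g hg y
  have h1 : g ∈ P.Z := commutator_M_le P
    (Subgroup.commutator_mono inf_le_left inf_le_left hg)
  have h2 : g ∈ stabilizer A x := inf_le_right (a := P.M) (der_le _ _ hg)
  rw [eq_one_of_fix P h1 hx (mem_stabilizer_iff.1 h2), one_smul]

end Cfsg.Agent.StabilizerLength
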