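import Cfsg.Agent.Lib.StabilizerLength.Tables

/-!
# Solvable groups on sixteen vectors with an element of order five

* `dl_sixteen`: they have length at most two.
-/

set_option autoImplicit false
set_option linter.style.haveILetI false
set_option linter.unusedSectionVars false

namespace Cfsg.Agent.StabilizerLength

open OddBaseTwo SolvableTransitive MulAction

universe u

/-- An element with `g ^ 5 = 1` is trivial on at most four points, and on an additive group of order
dividing sixteen and at most eight. -/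
theorem five_trivial {A : Type u} [Group A] {X : Type u} [Finite X] [MulAction A X] {g : A}
    (hg : g ^ 5 = 1) (hX : Nat.card X ≤ 4) (x : X) : g • x = x := by
  haveI : Fact (Nat.Prime 5) := ⟨by norm_num⟩
  have hP : IsPGroup 5 (Subgroup.zpowers g) := fun y => ⟨1, Subtype.ext (by
    obtain ⟨k, hk⟩ := y.2
    show ((y : A)) ^ 5 ^ 1 = 1
    rw [← hk, pow_one, ← zpow_natCast, zpow_comm, zpow_natCast, hg, one_zpow])⟩
  have h := hP.card_modEq_card_fixedPoints X
  have hle : Nat.card (fixedPoints (Subgroup.zpowers g) X) ≤ Nat.card X :=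
    Nat.card_le_card_of_injective _ Subtype.val_injective
  have heq : Nat.card (fixedPoints (Subgroup.zpowers g) X) = Nat.card X := by
    unfold Nat.ModEq at h; omega
  obtain ⟨⟨y, hy⟩, rfl⟩ := ((Nat.bijective_iff_injective_and_card
    (fun z : fixedPoints (Subgroup.zpowers g) X => (z : X))).2 ⟨Subtype.val_injective, heq⟩).2 x
  exact hy ⟨g, Subgroup.mem_zpowers g⟩

theorem five_trivial_group {A : Type u} [Group A] {U : Type u} [AddCommGroup U] [Finite U]
    [DistribMulAction A U] {g : A} (hg : g ^ 5 = 1) (hU : Nat.card U ∣ 16) (hU8 : Nat.card U ≤ 8)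
    (x : U) : g • x = x := by
  haveI : Fact (Nat.Prime 5) := ⟨by norm_num⟩
  have hP : IsPGroup 5 (Subgroup.zpowers g) := fun y => ⟨1, Subtype.ext (by
    obtain ⟨k, hk⟩ := y.2
    show ((y : A)) ^ 5 ^ 1 = 1
    rw [← hk, pow_one, ← zpow_natCast, zpow_comm, zpow_natCast, hg, one_zpow])⟩
  have h := hP.card_modEq_card_fixedPoints U
  let F : AddSubgroup U := fixSub g
  have hF : Nat.card (fixedPoints (Subgroup.zpowers g) U) = Nat.card F := by
    refine Nat.card_congr (Equiv.subtypeEquivRight fun y => ?_)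
    constructor
    · exact fun hy => hy ⟨g, Subgroup.mem_zpowers g⟩
    · rintro hy ⟨_, k, rfl⟩
      exact zpow_mem (show g ∈ stabilizer A y from hy) k
  rw [hF] at h
  have hd := AddSubgroup.card_addSubgroup_dvd_card F
  have hle := Nat.le_of_dvd Nat.card_pos hd
  have hpos : 0 < Nat.card F := Nat.card_pos
  have hcases : ∀ u f : ℕ, u ≤ 8 → f ≤ u → 0 < f → u ∣ 16 → f ∣ u → u % 5 = f % 5 → f = u := by
    intro u f hu hf h0 hu16 hfu hm
    interval_cases u <;> interval_cases f <;> first | omega | norm_num at *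
  have htop : F = ⊤ := AddSubgroup.eq_top_of_card_eq F (hcases _ _ hU8 hle hpos hU hd h)
  exact (htop ▸ AddSubgroup.mem_top x : x ∈ F)

/-- Length two on sixteen vectors. -/
theorem dl_sixteen {A : Type u} [Group A] [Finite A] {U : Type u} [AddCommGroup U] [Finite U]
    [DistribMulAction A U] (hsol : Group.IsSolvable A) (hcr : IsCR A U) (hU : Nat.card U = 16)
    {g : A} (hg : g ^ 5 = 1) (hne : ∃ x : U, g • x ≠ x) : DL U (⊤ : Subgroup A) 2 := by
  haveI := hsol
  obtain ⟨x, hx⟩ := hne
  haveI : Nontrivial U := Finite.one_lt_card_iff_nontrivial.1 (by omega)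
  have hirr : IsIrr A U := by
    by_contra hirr
    unfold IsIrr at hirr
    push Not at hirr
    obtain ⟨S, hS, hS0, hSt⟩ := hirr
    obtain ⟨W, hW, h1, h2⟩ := hcr S hS
    have hsmall : ∀ T : AddSubgroup U, T ≠ ⊤ → Nat.card T ≤ 8 := fun T hT => by
      have h3 := AddSubgroup.card_addSubgroup_dvd_card T
      have h4 := card_lt_of_ne_top hT
      rw [hU] at h3 h4
      obtain ⟨i, hi, hTi⟩ := (Nat.dvd_prime_pow Nat.prime_two).1 (show Nat.card T ∣ 2 ^ 4 from h3)
      rw [hTi] at h4 ⊢
      interval_cases i <;> norm_num at *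
    have hWt : W ≠ ⊤ := fun h => hS0 (by rwa [h, inf_top_eq] at h1)
    obtain ⟨y, hy, z, hz, rfl⟩ := exists_add_of_sup_eq_top h2 x
    refine hx ?_
    rw [smul_add]
    have hd : ∀ T : AddSubgroup U, Nat.card T ∣ 16 := fun T =>
      hU ▸ AddSubgroup.card_addSubgroup_dvd_card T
    refine congrArg₂ (· + ·) ?_ ?_
    · letI := subAction S hS
      exact congrArg Subtype.val (five_trivial_group hg (hd S) (hsmall S hSt) (⟨y, hy⟩ : S))
    · letI := subAction W hW
      exact congrArg Subtype.val (five_trivial_group hg (hd W) (hsmall W hWt) (⟨z, hz⟩ : W))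
  letI := rangeAction A U
  refine DL.of_hom (MulAction.toPermHom A U).rangeRestrict id Function.injective_id (fun _ _ => rfl)
    (DL.mono ?_ le_top le_rfl)
  have hsolR : Group.IsSolvable (MulAction.toPermHom A U).range :=
    Group.isSolvable_of_surjective (MulAction.toPermHom A U).rangeRestrict_surjective
  have hirrR : IsIrr (MulAction.toPermHom A U).range U := fun S hS =>
    hirr S fun a w hw => hS ((MulAction.toPermHom A U).rangeRestrict a) w hw
  by_cases hfield : ∀ Z : Subgroup (MulAction.toPermHom A U).range, Z.Normal → IsMulCommutative ↥Z →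
      IsField ↥(spanRing U Z)
  · obtain ⟨K, _, _, _, P, e, he, he1, hem, hcard, hq, -, hcomm, -⟩ := exists_prim hsolR hfield
    rcases eq_or_lt_of_le he1 with h | h
    · exact dl_prim_one P hcomm (by rw [he, ← h])
    exfalso
    rw [hU] at hcard
    obtain ⟨j, hj, hKj⟩ := (Nat.dvd_prime_pow Nat.prime_two).1
      (show Nat.card K ∣ 2 ^ 4 from (dvd_pow_self _ (show Module.finrank K U ≠ 0 by omega)).trans
        (dvd_of_eq hcard.symm))
    have hjm : 4 = j * Module.finrank K U := Nat.pow_right_injective le_rfl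
      (show (2 : ℕ) ^ 4 = 2 ^ (j * Module.finrank K U) by rw [pow_mul, ← hKj, ← hcard])
    obtain ⟨r, hr, hre⟩ := Nat.exists_prime_and_dvd (show e ≠ 1 by omega)
    have hd := P.dvd_W hr (he ▸ dvd_mul_of_dvd_left hre e)
    have hre' : r ≤ e := Nat.le_of_dvd (by omega) hre
    have hm4 : Module.finrank K U ≤ 4 := Nat.le_of_dvd (by norm_num) (hjm ▸ dvd_mul_left _ _)
    have hj4 : j ≤ 2 := by
      by_contra hj4
      have := Nat.mul_le_mul (show 3 ≤ j by omega) (show 2 ≤ Module.finrank K U by omega)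
      omega
    rw [hKj] at hd
    have := hr.two_le
    interval_cases j
    · norm_num at hjm
    · exact hr.ne_one (Nat.dvd_one.1 hd)
    · norm_num at hd
      have h3 : r = 3 := (Nat.prime_dvd_prime_iff_eq hr Nat.prime_three).1 hd
      omega
  push Not at hfield
  obtain ⟨Z, hZn, hZ, hnot⟩ := hfield
  haveI := hZn
  obtain ⟨ι, _, _, W, hd, h2⟩ := (isField_or_decomp hirrR Z hZ).resolve_left hnot
  exfalso
  obtain ⟨i₀⟩ : Nonempty ι := Fintype.card_pos_iff.1 (by omega)
  have hc := card_eq_pow hd hirrR i₀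
  rw [hU] at hc
  haveI := nontrivial_block hd i₀
  have h1 : 1 < Nat.card (W i₀) := Finite.one_lt_card
  have hm : Fintype.card ι ≤ 4 := by
    have h3 : 2 ^ Fintype.card ι ≤ 2 ^ 4 := (Nat.pow_le_pow_left h1 _).trans (le_of_eq hc.symm)
    exact (Nat.pow_le_pow_iff_right (by norm_num : 1 < 2)).1 h3
  have hu : Nat.card (W i₀) ≤ 4 := by
    have h3 : Nat.card (W i₀) ^ 2 ≤ 4 ^ 2 :=
      (Nat.pow_le_pow_right (by omega) h2).trans (hc.symm.le.trans (by norm_num))
    exact (Nat.pow_le_pow_iff_left two_ne_zero).1 h3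
  set f := (MulAction.toPermHom A U).rangeRestrict g with hf
  have hf5 : f ^ 5 = 1 := by rw [hf, ← map_pow, hg, map_one]
  have hfι : ∀ i : ι, f • i = i := five_trivial hf5 (by rw [Nat.card_eq_fintype_card]; exact hm)
  refine hx (show f • x = x from ?_)
  obtain ⟨c, rfl⟩ := hd.bij.2 x
  rw [Finset.smul_sum]
  refine Finset.sum_congr rfl fun i _ => ?_
  letI := subAction (W i) (inv_block hd i)
  have hcard : Nat.card (W i) ≤ 4 :=
    (card_block_eq hd (exists_rep hd hirrR i₀ i).choose_spec).le.trans hu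
  exact congrArg Subtype.val (five_trivial_group (A := stabilizer _ i)
    (g := ⟨f, mem_stabilizer_iff.2 (hfι i)⟩) (Subtype.ext hf5)
    (hU ▸ AddSubgroup.card_addSubgroup_dvd_card (W i)) (hcard.trans (by norm_num)) (c i))

end Cfsg.Agent.StabilizerLength
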