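import Cfsg.Agent.Lib.StabilizerLength.Affine
import Cfsg.Agent.Lib.StabilizerLength.Section
import Mathlib.Tactic.IntervalCases

/-!
# Derived lengths of small solvable linear and permutation groups

* `linB_8 : LinB 8 2`, `linB_63 : LinB 63 4`, `linB_4095 : LinB 4095 6`, `linB_16384 : LinB 16384 8`.
* `permB_3`, `permB_4`, `permB_7`, `permB_15`.
* `dl_of_prime_card`: a group of automorphisms of a group of prime order is abelian.
-/

set_option autoImplicit false
set_option linter.style.haveILetI false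
set_option linter.unusedSectionVars false

namespace Cfsg.Agent.StabilizerLength

open OddBaseTwo SolvableTransitive MulAction

universe u v

theorem dl_of_prime_card {A : Type u} [Group A] {V : Type v} [AddCommGroup V] [Finite V]
    [DistribMulAction A V] (hp : (Nat.card V).Prime) (X : Subgroup A) : DL V X 1 := by
  haveI := Fact.mk hp
  refine DL.of_comm fun g _ k _ x => ?_
  by_cases hx : x = 0
  · subst hx; simp
  obtain ⟨i, hi⟩ := AddSubgroup.mem_zmultiples_iff.1
    (mem_zmultiples_of_prime_card rfl hx (g' := g • x))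
  obtain ⟨j, hj⟩ := AddSubgroup.mem_zmultiples_iff.1
    (mem_zmultiples_of_prime_card rfl hx (g' := k • x))
  rw [← hj, ← hi, smul_comm g j x, smul_comm k i x, ← hi, ← hj, smul_comm i j]

theorem linB_two : LinB.{u} 2 0 := by
  intro A _ _ V _ _ _ hV _ _ g _ x
  by_cases hx : x = 0
  · subst hx; exact smul_zero g
  by_contra hne
  haveI := Fintype.ofFinite V
  classical
  have h3 : ({0, x, g • x} : Finset V).card = 3 := Finset.card_eq_three.2
    ⟨0, x, g • x, Ne.symm hx, fun h => hx ((smul_eq_zero_iff_eq g).1 h.symm), Ne.symm hne, rfl⟩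
  have := Finset.card_le_univ ({0, x, g • x} : Finset V)
  rw [← Nat.card_eq_fintype_card] at this
  omega

theorem linB_three : LinB.{u} 3 1 := by
  intro A _ _ V _ _ _ hV hs hcr
  by_cases h3 : Nat.card V = 3
  · exact dl_of_prime_card (h3 ▸ Nat.prime_three) ⊤
  · exact (linB_two A V (by omega) hs hcr).mono le_rfl (Nat.zero_le 1)

theorem perm_step {N n : ℕ}
    (haff : ∀ m, 2 ≤ m → m ≤ N → ∃ a, LinB.{u} m a ∧ a + 1 ≤ n)
    (hprod : ∀ d d', 2 ≤ d → 2 ≤ d' → d * d' ≤ N →
      ∃ a b, PermB.{u} d a ∧ PermB.{u} d' b ∧ a + b ≤ n) : PermB.{u} N n := by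
  intro G _ _ X _ _ hX hsol g hg x
  haveI := hsol
  let S := orbitSub (G := G) x
  let R := (MulAction.toPermHom G S).range
  haveI : IsPretransitive R S := ⟨fun y z => by
    obtain ⟨a, ha⟩ := (y : S).2
    obtain ⟨b, hb⟩ := (z : S).2
    refine ⟨(MulAction.toPermHom G S).rangeRestrict (b * a⁻¹), Subtype.ext ?_⟩
    show (b * a⁻¹) • (y : X) = (z : X)
    rw [← ha, ← hb]
    show (b * a⁻¹) • a • x = b • x
    rw [mul_smul, inv_smul_smul]⟩
  have hsolR : Group.IsSolvable R :=
    Group.isSolvable_of_surjective (MulAction.toPermHom G S).rangeRestrict_surjective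
  suffices h : DL S (⊤ : Subgroup R) n by
    have h' : DL S (⊤ : Subgroup G) n := DL.of_hom (MulAction.toPermHom G S).rangeRestrict id
      Function.injective_id (fun _ _ => rfl) (h.mono le_top le_rfl)
    exact congrArg Subtype.val (h' g hg ⟨x, mem_orbit_self x⟩)
  let x₀ : S := ⟨x, mem_orbit_self x⟩
  have hS : Nat.card S ≤ N := (Nat.card_le_card_of_injective _ Subtype.val_injective).trans hX
  clear_value x₀
  clear hg g
  by_cases hone : Nat.card S ≤ 1
  · haveI := Finite.card_le_one_iff_subsingleton.1 hone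
    exact fun _ _ y => Subsingleton.elim _ _
  have hne : stabilizer R x₀ ≠ ⊤ := fun h => hone (Finite.card_le_one_iff_subsingleton.2 ⟨fun y z => by
    obtain ⟨a, rfl⟩ := exists_smul_eq R x₀ y
    obtain ⟨b, rfl⟩ := exists_smul_eq R x₀ z
    rw [mem_stabilizer_iff.1 (h ▸ Subgroup.mem_top a), mem_stabilizer_iff.1 (h ▸ Subgroup.mem_top b)]⟩)
  obtain ⟨K, hK, hle⟩ := (eq_top_or_exists_le_coatom (stabilizer R x₀)).resolve_left hne
  by_cases hKe : K = stabilizer R x₀
  · obtain ⟨T⟩ := exists_affine hsolR (hKe ▸ hK)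
    obtain ⟨a, ha, han⟩ := haff (Nat.card S) (by omega) hS
    exact (T.dl_top hsolR ha).mono le_rfl han
  -- blocks
  choose rep hrep using fun y : S => exists_smul_eq R x₀ y
  let bl : S → R ⧸ K := fun y => QuotientGroup.mk (rep y)
  have hbl : ∀ (r : R) (y : S), bl (r • y) = r • bl y := fun r y => QuotientGroup.eq.2 (hle
    (mem_stabilizer_iff.2 (by
      show ((rep (r • y))⁻¹ * (r * rep y)) • x₀ = x₀
      rw [mul_smul, mul_smul, hrep, inv_smul_eq_iff, hrep])))
  obtain ⟨k, hk, hkx⟩ := Set.not_subset.1 fun h => hKe (le_antisymm h hle)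
  have hfib : ∀ q, Nat.card {y // bl y = q} = Nat.card {y // bl y = bl x₀} := by
    intro q
    obtain ⟨r, hr⟩ : ∃ r : R, r • bl x₀ = q := exists_smul_eq R _ _
    refine (Nat.card_congr ((MulAction.toPerm r).subtypeEquiv fun y => ?_)).symm
    show bl y = bl x₀ ↔ bl (r • y) = q
    rw [hbl, ← hr, smul_left_cancel_iff]
  have hcard : Nat.card (R ⧸ K) * Nat.card {y // bl y = bl x₀} = Nat.card S := by
    haveI := Fintype.ofFinite (R ⧸ K)
    rw [← Nat.card_congr (Equiv.sigmaFiberEquiv bl), Nat.card_sigma,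
      Finset.sum_congr rfl (fun q _ => hfib q), Finset.sum_const, Finset.card_univ, smul_eq_mul,
      ← Nat.card_eq_fintype_card]
  have hd : 2 ≤ Nat.card (R ⧸ K) :=
    lt_of_le_of_ne Nat.card_pos fun h => hK.1 (Subgroup.index_eq_one.1 h.symm)
  have hd' : 2 ≤ Nat.card {y // bl y = bl x₀} := by
    refine Finite.one_lt_card_iff_nontrivial.2
      ⟨⟨⟨x₀, rfl⟩, ⟨k • x₀, ?_⟩, fun h => hkx (mem_stabilizer_iff.2 (congrArg Subtype.val h).symm)⟩⟩
    refine QuotientGroup.eq.2 ?_
    have h1 : rep x₀ ∈ K := hle (mem_stabilizer_iff.2 (hrep x₀))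
    have h2 : k⁻¹ * rep (k • x₀) ∈ K :=
      hle (mem_stabilizer_iff.2 (by rw [mul_smul, hrep, inv_smul_smul]))
    have h3 : rep (k • x₀) ∈ K := by
      have := K.mul_mem hk h2
      rwa [mul_inv_cancel_left] at this
    exact K.mul_mem (K.inv_mem h3) h1
  obtain ⟨a, b, ha, hb, hab⟩ := hprod _ _ hd hd' (hcard ▸ hS)
  have hq : DL (R ⧸ K) (⊤ : Subgroup R) a := ha R (R ⧸ K) le_rfl hsolR
  refine DL.mono (Y := ⊤) (n := a + b) ?_ le_rfl hab
  intro g hg y
  let Q := stabilizer R (bl y)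
  have hQ : der (⊤ : Subgroup R) a ≤ Q := fun s hs => mem_stabilizer_iff.2 (hq s hs _)
  let Fb : SubMulAction Q S := ⟨{z | bl z = bl y}, fun s {z} hz => by
    show bl ((s : R) • z) = bl y
    rw [hbl, show bl z = bl y from hz]
    exact s.2⟩
  have hFb : Nat.card Fb ≤ Nat.card {y // bl y = bl x₀} := (hfib (bl y)).le
  rw [der_add] at hg
  have h1 : g ∈ der Q b := der_mono hQ b hg
  rw [← map_derivedSeries_eq_der] at h1
  obtain ⟨s, hs, rfl⟩ := h1
  have hsolQ : Group.IsSolvable Q := inferInstance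
  have h2 := hb Q Fb hFb hsolQ s (by
    rw [← map_derivedSeries_eq_der]
    refine ⟨⟨s, trivial⟩, ?_, rfl⟩
    have h3 := map_derivedSeries_eq (f := (Subgroup.topEquiv (G := Q)).toMonoidHom)
      (Subgroup.topEquiv (G := Q)).surjective b
    rw [← h3] at hs
    obtain ⟨s', hs', rfl⟩ := hs
    exact hs') ⟨y, rfl⟩
  exact congrArg Subtype.val h2

theorem lin_step {N n : ℕ} (h1 : 2 ≤ n)
    (himp : ∀ c m, 2 ≤ c → 2 ≤ m → c ^ m ≤ N →
      ∃ a b, LinB.{u} c a ∧ PermB.{u} m b ∧ a + b ≤ n)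
    (hprim : ∀ q e, 2 ≤ e → 3 ≤ q → (∀ r : ℕ, r.Prime → r ∣ e → r + 1 ≤ q) → q ^ e ≤ N →
      ∃ a, 1 ≤ a ∧ LinB.{u} (e * e) a ∧ a + 2 ≤ n) : LinB.{u} N n := by
  intro A _ _ V _ _ _ hV hsol hcr
  suffices h : ∀ c : ℕ, ∀ (A : Type u) [Group A] [Finite A] (V : Type u) [AddCommGroup V] [Finite V]
      [DistribMulAction A V], Nat.card V = c → c ≤ N → Group.IsSolvable A → IsCR A V →
      DL V (⊤ : Subgroup A) n from h _ A V rfl hV hsol hcr
  intro c
  induction c using Nat.strong_induction_on with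
  | _ c ih =>
  intro A _ _ V _ _ _ hc hcN hsol hcr
  haveI := hsol
  rcases subsingleton_or_nontrivial V with hV | hV
  · exact fun g _ x => Subsingleton.elim _ _
  by_cases hirr : IsIrr A V
  swap
  · unfold IsIrr at hirr
    push Not at hirr
    obtain ⟨U, hU, hU0, hUt⟩ := hirr
    obtain ⟨W, hW, h3, h4⟩ := hcr U hU
    have hWt : W ≠ ⊤ := fun h => hU0 (by rwa [h, inf_top_eq] at h3)
    have hu := card_lt_of_ne_top hUt
    have hw := card_lt_of_ne_top hWt
    exact DL.of_complement hU hW h4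
      (by letI := subAction U hU; exact ih _ (hc ▸ hu) A U rfl (by omega) hsol (isCR_subAction hcr hU))
      (by letI := subAction W hW; exact ih _ (hc ▸ hw) A W rfl (by omega) hsol (isCR_subAction hcr hW))
  letI := rangeAction A V
  refine DL.of_hom (MulAction.toPermHom A V).rangeRestrict id Function.injective_id (fun _ _ => rfl)
    (DL.mono ?_ le_top le_rfl)
  have hsolR : Group.IsSolvable (MulAction.toPermHom A V).range :=
    Group.isSolvable_of_surjective (MulAction.toPermHom A V).rangeRestrict_surjective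
  have hirrR : IsIrr (MulAction.toPermHom A V).range V := fun U hU =>
    hirr U fun a w hw => hU ((MulAction.toPermHom A V).rangeRestrict a) w hw
  by_cases hfield : ∀ Z : Subgroup (MulAction.toPermHom A V).range, Z.Normal → IsMulCommutative ↥Z → IsField ↥(spanRing V Z)
  · obtain ⟨K, _, _, _, P, e, he, he1, hem, hcard, hq, hr, hcomm, -⟩ := exists_prim hsolR hfield
    rcases eq_or_lt_of_le he1 with h | h
    · exact (dl_prim_one P hcomm (by rw [he, ← h])).mono le_rfl h1
    have hqe : Nat.card K ^ e ≤ N := (Nat.pow_le_pow_right (by omega) hem).trans (by omega)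
    have hq3 : 3 ≤ Nat.card K := by
      obtain ⟨r, hrp, hre⟩ := Nat.exists_prime_and_dvd (show e ≠ 1 by omega)
      have := hr r hrp hre
      have := hrp.two_le
      omega
    obtain ⟨a, ha1, ha, han⟩ := hprim _ e h hq3 hr hqe
    exact (dl_prim P hcomm hsolR (by rw [he]; exact ha) ha1).mono le_rfl han
  push Not at hfield
  obtain ⟨Z, hZn, hZ, hnot⟩ := hfield
  haveI := hZn
  obtain ⟨ι, _, _, W, hd, h2⟩ := (isField_or_decomp hirrR Z hZ).resolve_left hnot
  obtain ⟨i₀⟩ : Nonempty ι := Fintype.card_pos_iff.1 (by omega)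
  haveI := nontrivial_block hd i₀
  have hcard := card_eq_pow hd hirrR i₀
  obtain ⟨a, b, ha, hb, hab⟩ := himp (Nat.card (W i₀)) (Fintype.card ι) Finite.one_lt_card h2
    (by omega)
  choose rep hrep using exists_rep hd hirrR i₀
  refine DL.mono (n := b + a) ?_ le_rfl (by omega)
  refine dl_sum hd rep hrep (fun _ : Unit => (0 : W i₀)) (fun _ => ()) (fun g _ => by simp)
    (hb (MulAction.toPermHom A V).range ι (Nat.card_eq_fintype_card).le hsolR) fun i => ?_
  letI := subAction (W i₀) (inv_block hd i₀)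
  haveI := hsolR
  exact (ha (stabilizer (MulAction.toPermHom A V).range i₀) (W i₀) le_rfl inferInstance (block_irr hd hirrR i₀).isCR).mono
    le_top le_rfl

/-- From a bound on a product, bounds on the factors. -/
theorem factor_le {d d' N : ℕ} (hd : 2 ≤ d) (h : d * d' ≤ N) : d' ≤ N / 2 :=
  (Nat.le_div_iff_mul_le two_pos).2 (le_trans (by rw [mul_comm]; exact Nat.mul_le_mul_right _ hd) h)

theorem permB_two : PermB.{u} 2 1 :=
  perm_step (fun _ _ hm => ⟨0, linB_two.mono hm le_rfl, le_rfl⟩)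
    (fun d d' hd hd' h => absurd (Nat.mul_le_mul hd hd') (by omega))

theorem permB_three : PermB.{u} 3 2 :=
  perm_step (fun _ _ hm => ⟨1, linB_three.mono hm le_rfl, le_rfl⟩)
    (fun d d' hd hd' h => absurd (Nat.mul_le_mul hd hd') (by omega))

theorem linB_8 : LinB.{u} 8 2 := by
  refine lin_step le_rfl (fun c m hc hm h => ?_) (fun q e he hq _ h => absurd h (Nat.not_le.2 ?_))
  · have h1 : 2 ^ m ≤ 8 := (Nat.pow_le_pow_left hc m).trans h
    have hm3 : m ≤ 3 := (Nat.pow_le_pow_iff_right (by norm_num : 1 < 2)).1 (h1.trans_eq (by norm_num))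
    have hc2 : c ≤ 2 := by
      have h2 : c ^ 2 ≤ 8 := (Nat.pow_le_pow_right (by omega) hm).trans h
      nlinarith
    exact ⟨0, 2, linB_two.mono hc2 le_rfl, permB_three.mono hm3 le_rfl, le_rfl⟩
  · calc 8 < 3 ^ 2 := by norm_num
      _ ≤ 3 ^ e := Nat.pow_le_pow_right (by norm_num) he
      _ ≤ q ^ e := Nat.pow_le_pow_left hq e

theorem permB_7 : PermB.{u} 7 3 := by
  refine perm_step (fun m _ hm => ⟨2, linB_8.mono (by omega) le_rfl, le_rfl⟩) fun d d' hd hd' h => ?_
  have h1 := factor_le hd h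
  have h2 := factor_le hd' (show d' * d ≤ 7 by rw [mul_comm]; exact h)
  rcases (show d = 2 ∨ d = 3 by omega) with rfl | rfl
  · exact ⟨1, 2, permB_two, permB_three.mono (by omega) le_rfl, le_rfl⟩
  · exact ⟨2, 1, permB_three, permB_two.mono (by omega) le_rfl, le_rfl⟩

theorem bounds_of_pow {c m N M C : ℕ} (hc : 2 ≤ c) (hm : 2 ≤ m) (h : c ^ m ≤ N)
    (hM : N < 2 ^ (M + 1)) (hC : N < (C + 1) ^ 2) : m ≤ M ∧ c ≤ C := by
  constructor
  · have h1 := ((Nat.pow_le_pow_left hc m).trans h).trans_lt hM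
    have := (Nat.pow_lt_pow_iff_right (by norm_num : 1 < 2)).1 h1
    omega
  · have h1 := ((Nat.pow_le_pow_right (by omega) hm).trans h).trans_lt hC
    have := (Nat.pow_lt_pow_iff_left (by norm_num : (2 : ℕ) ≠ 0)).1 h1
    omega

theorem small_c {c m N C : ℕ} (k : ℕ) (hm : k ≤ m) (hk : k ≠ 0) (hc : 2 ≤ c) (h : c ^ m ≤ N)
    (hC : N < (C + 1) ^ k) : c ≤ C := by
  have h1 := ((Nat.pow_le_pow_right (by omega) hm).trans h).trans_lt hC
  have := (Nat.pow_lt_pow_iff_left hk).1 h1
  omega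

theorem exponent_le {q e N E : ℕ} (hq : 3 ≤ q) (h : q ^ e ≤ N) (hE : N < 3 ^ (E + 1)) : e ≤ E := by
  have h1 := ((Nat.pow_le_pow_left hq e).trans h).trans_lt hE
  have := (Nat.pow_lt_pow_iff_right (by norm_num : 1 < 3)).1 h1
  omega

theorem linB_63 : LinB.{u} 63 4 := by
  refine lin_step (by norm_num) (fun c m hc hm h => ?_) fun q e he hq hr h => ?_
  · obtain ⟨hm5, hc7⟩ := bounds_of_pow (M := 5) (C := 7) hc hm h (by norm_num) (by norm_num)
    rcases (show m = 2 ∨ m = 3 ∨ 4 ≤ m by omega) with rfl | rfl | hm4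
    · exact ⟨2, 1, linB_8.mono (by omega) le_rfl, permB_two, by norm_num⟩
    · exact ⟨1, 2, linB_three.mono (small_c 3 le_rfl (by norm_num) hc h (by norm_num)) le_rfl,
        permB_three, by norm_num⟩
    · exact ⟨0, 3, linB_two.mono (small_c 4 hm4 (by norm_num) hc h (by norm_num)) le_rfl,
        permB_7.mono (by omega) le_rfl, by norm_num⟩
  · have he3 : e ≤ 3 := exponent_le hq h (by norm_num)
    rcases (show e = 2 ∨ e = 3 by omega) with rfl | rfl
    · exact ⟨2, by norm_num, linB_8.mono (by norm_num) le_rfl, le_rfl⟩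
    · exfalso
      have h4 := hr 3 Nat.prime_three dvd_rfl
      have := (Nat.pow_le_pow_left h4 3).trans h
      omega

theorem permB_15 : PermB.{u} 15 5 := by
  refine perm_step (fun m _ hm => ⟨4, linB_63.mono (by omega) le_rfl, le_rfl⟩) fun d d' hd hd' h => ?_
  have h1 := factor_le hd h
  have h2 := factor_le hd' (show d' * d ≤ 15 by rw [mul_comm]; exact h)
  by_cases hd2 : d ≤ 3
  · exact ⟨2, 3, permB_three.mono hd2 le_rfl, permB_7.mono (by omega) le_rfl, le_rfl⟩
  · refine ⟨3, 2, permB_7.mono (by omega) le_rfl, permB_three.mono ?_ le_rfl, le_rfl⟩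
    by_contra h3
    have := Nat.mul_le_mul (show 4 ≤ d by omega) (show 4 ≤ d' by omega)
    omega

theorem linB_4095 : LinB.{u} 4095 6 := by
  refine lin_step (by norm_num) (fun c m hc hm h => ?_) fun q e he hq hr h => ?_
  · obtain ⟨hm11, hc63⟩ := bounds_of_pow (M := 11) (C := 63) hc hm h (by norm_num) (by norm_num)
    rcases (show m = 2 ∨ m = 3 ∨ (4 ≤ m ∧ m ≤ 7) ∨ 8 ≤ m by omega) with rfl | rfl | hm4 | hm8
    · exact ⟨4, 1, linB_63.mono hc63 le_rfl, permB_two, by norm_num⟩
    · exact ⟨4, 2, linB_63.mono ((small_c (C := 15) 3 le_rfl (by norm_num) hc h (by norm_num)).trans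
        (by norm_num)) le_rfl, permB_three, le_rfl⟩
    · exact ⟨2, 3, linB_8.mono ((small_c (C := 7) 4 hm4.1 (by norm_num) hc h (by norm_num)).trans
        (by norm_num)) le_rfl, permB_7.mono hm4.2 le_rfl, by norm_num⟩
    · exact ⟨0, 5, linB_two.mono (small_c (C := 2) 8 hm8 (by norm_num) hc h (by norm_num)) le_rfl,
        permB_15.mono (by omega) le_rfl, by norm_num⟩
  · have he7 : e ≤ 7 := exponent_le hq h (by norm_num)
    exact ⟨4, by norm_num, linB_63.mono (le_trans (Nat.mul_le_mul he7 he7) (by norm_num)) le_rfl, le_rfl⟩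

theorem linB_16384 : LinB.{u} 16384 8 := by
  refine lin_step (by norm_num) (fun c m hc hm h => ?_) fun q e he hq hr h => ?_
  · obtain ⟨hm14, hc128⟩ := bounds_of_pow (M := 14) (C := 128) hc hm h (by norm_num) (by norm_num)
    rcases (show m = 2 ∨ m = 3 ∨ (4 ≤ m ∧ m ≤ 7) ∨ 8 ≤ m by omega) with rfl | rfl | hm4 | hm8
    · exact ⟨6, 1, linB_4095.mono (by omega) le_rfl, permB_two, by norm_num⟩
    · exact ⟨4, 2, linB_63.mono ((small_c (C := 25) 3 le_rfl (by norm_num) hc h (by norm_num)).trans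
        (by norm_num)) le_rfl, permB_three, by norm_num⟩
    · exact ⟨4, 3, linB_63.mono ((small_c (C := 11) 4 hm4.1 (by norm_num) hc h (by norm_num)).trans
        (by norm_num)) le_rfl, permB_7.mono hm4.2 le_rfl, by norm_num⟩
    · exact ⟨1, 5, linB_three.mono (small_c (C := 3) 8 hm8 (by norm_num) hc h (by norm_num)) le_rfl,
        permB_15.mono (by omega) le_rfl, by norm_num⟩
  · have he8 : e ≤ 8 := exponent_le hq h (by norm_num)
    exact ⟨6, by norm_num, linB_4095.mono (le_trans (Nat.mul_le_mul he8 he8) (by norm_num)) le_rfl, le_rfl⟩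

end Cfsg.Agent.StabilizerLength
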